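import Groth.Agent.Lib.WeilRes21.Ring
import Mathlib.RingTheory.RingHom.Smooth
import Mathlib.RingTheory.RingHom.FinitePresentation
import Mathlib.RingTheory.Artinian.Ring
import Mathlib.RingTheory.Artinian.Module
import Mathlib.RingTheory.Jacobson.Ring
import Mathlib.RingTheory.Flat.FaithfullyFlat.Basic
import Mathlib.RingTheory.LocalRing.ResidueField.Ideal
import Mathlib.FieldTheory.IsAlgClosed.Basic

/-!
Infinitesimal lifting for the Weil restriction of rings, and lifting of points through finite
algebras over an algebraically closed field.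
-/

universe u

open TensorProduct

set_option backward.isDefEq.respectTransparency false

noncomputable section

namespace Groth.Agent.WeilRes21

/-- lifting along a nilpotent thickening, in terms of ring maps -/
theorem exists_lift_over {A₀ A D E : Type u} [CommRing A₀] [CommRing A] [CommRing D] [CommRing E]
    (g : A₀ →+* A) (hg : g.FormallySmooth) (π : D →+* E) (hker : IsNilpotent (RingHom.ker π))
    (ψ : A₀ →+* D) (φ₀ : A →+* E) (hr : ∀ a, φ₀ a ∈ π.range) (hc : φ₀.comp g = π.comp ψ) :
    ∃ φ : A →+* D, π.comp φ = φ₀ ∧ φ.comp g = ψ := by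
  let : Algebra A₀ A := g.toAlgebra
  let : Algebra A₀ D := ψ.toAlgebra
  have : Algebra.FormallySmooth A₀ A := hg
  let f₁ : A →+* D ⧸ RingHom.ker π :=
    (RingHom.quotientKerEquivRange π).symm.toRingHom.comp (φ₀.codRestrict π.range hr)
  have hf₁ : ∀ a, RingHom.kerLift π (f₁ a) = φ₀ a := fun a => by
    change ((RingHom.quotientKerEquivRange π) ((RingHom.quotientKerEquivRange π).symm ⟨φ₀ a, hr a⟩)).1 = _
    rw [RingEquiv.apply_symm_apply]
  let f : A →ₐ[A₀] D ⧸ RingHom.ker π :=
    { f₁ with
      commutes' := fun x => by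
        refine RingHom.kerLift_injective π ?_
        change RingHom.kerLift π (f₁ (g x)) = RingHom.kerLift π (Ideal.Quotient.mk _ (ψ x))
        rw [hf₁, RingHom.kerLift_mk]
        exact congr($hc x) }
  obtain ⟨φ, hφ⟩ := Algebra.FormallySmooth.exists_lift (RingHom.ker π) hker f
  refine ⟨φ.toRingHom, RingHom.ext fun a => ?_, RingHom.ext fun x => φ.commutes x⟩
  rw [← hf₁ a, show f₁ a = Ideal.Quotient.mk _ (φ a) from (congr($hφ a)).symm]
  rfl

variable {B B' A A₀ : Type u} [CommRing B] [CommRing B'] [CommRing A] [CommRing A₀] [Algebra B B']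
  [Algebra B' A] [Algebra B' A₀] [Module.Finite B B'] [Module.Projective B B']

section

variable {C : Type u} [CommRing C] [Algebra B C] (I : Ideal C)

theorem bcMap_mk_eq_zero {z : B' ⊗[B] C} (hz : bcMap B B' (Ideal.Quotient.mkₐ B I) z = 0) (i) :
    coord B B' i z ∈ I := by
  rw [← Ideal.Quotient.eq_zero_iff_mem]
  have := congrArg (coord B B' i) hz
  rwa [coord_bcMap, map_zero, Ideal.Quotient.mkₐ_eq_mk] at this

theorem isNilpotent_ker_bcMap_mk (hI : I ^ 2 = ⊥) :
    IsNilpotent (RingHom.ker (bcMap B B' (Ideal.Quotient.mkₐ B I)).toRingHom) := by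
  refine ⟨2, ?_⟩
  rw [pow_two, Ideal.zero_eq_bot, eq_bot_iff, Ideal.mul_le]
  intro z hz z' hz'
  rw [Ideal.mem_bot, ← sum_coord B B' z, ← sum_coord B B' z', Finset.sum_mul_sum]
  refine Finset.sum_eq_zero fun i _ => Finset.sum_eq_zero fun j _ => ?_
  have h0 : coord B B' i z * coord B B' j z' = 0 := by
    have := Ideal.mul_mem_mul (bcMap_mk_eq_zero I hz i) (bcMap_mk_eq_zero I hz' j)
    rwa [← pow_two, hI, Ideal.mem_bot] at this
  rw [Algebra.TensorProduct.tmul_mul_tmul, h0, tmul_zero]

/-- evaluation on the diagonal -/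
def diag [Algebra B' C] [IsScalarTower B B' C] : B' ⊗[B] C →ₐ[B'] C :=
  Algebra.TensorProduct.lift (Algebra.ofId B' C) (AlgHom.id B C) fun _ _ => Commute.all _ _

@[simp]
theorem diag_tmul [Algebra B' C] [IsScalarTower B B' C] (b : B') (c : C) :
    diag (B := B) (b ⊗ₜ c) = algebraMap B' C b * c := rfl

end

/-- functoriality -/
def mapRing (g : A₀ →ₐ[B'] A) : Ring B B' A₀ →ₐ[B] Ring B B' A := lift ((univ B B' A).comp g)

theorem homEquiv_comp_mapRing {C : Type u} [CommRing C] [Algebra B C] (g : A₀ →ₐ[B'] A)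
    (ψ : Ring B B' A →ₐ[B] C) :
    homEquiv B B' A₀ (ψ.comp (mapRing g)) = (homEquiv B B' A ψ).comp g := by
  rw [homEquiv_comp, homEquiv_apply]
  change (bcMap B B' ψ).comp (homEquiv B B' A₀ ((homEquiv B B' A₀).symm _)) = _
  rw [Equiv.apply_symm_apply]
  rfl

theorem formallySmooth_mapRing (g : A₀ →ₐ[B'] A) (hg : g.toRingHom.FormallySmooth) :
    (mapRing (B := B) g).toRingHom.FormallySmooth := by
  let : Algebra (Ring B B' A₀) (Ring B B' A) := (mapRing (B := B) g).toRingHom.toAlgebra
  have : IsScalarTower B (Ring B B' A₀) (Ring B B' A) :=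
    IsScalarTower.of_algebraMap_eq' (R := B) (S := Ring B B' A₀) (A := Ring B B' A)
      (mapRing g).comp_algebraMap.symm
  refine Algebra.FormallySmooth.of_comp_surjective fun C _ _ I hI f => ?_
  let : Algebra B C := ((algebraMap (Ring B B' A₀) C).comp (algebraMap B _)).toAlgebra
  have : IsScalarTower B (Ring B B' A₀) C :=
    IsScalarTower.of_algebraMap_eq' (R := B) (S := Ring B B' A₀) (A := C) rfl
  let ψ₀ : Ring B B' A₀ →ₐ[B] C := IsScalarTower.toAlgHom B _ C
  let f' : Ring B B' A →ₐ[B] C ⧸ I := f.restrictScalars B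
  obtain ⟨φ, hφ₁, hφ₂⟩ := exists_lift_over g.toRingHom hg (bcMap B B' (Ideal.Quotient.mkₐ B I)).toRingHom
    (isNilpotent_ker_bcMap_mk I hI) (homEquiv B B' A₀ ψ₀).toRingHom (homEquiv B B' A f').toRingHom
    (fun a => bcMap_surjective B B' _ Ideal.Quotient.mk_surjective _)
    (by
      change ((homEquiv B B' A f').comp g).toRingHom = ((bcMap B B' _).comp (homEquiv B B' A₀ ψ₀)).toRingHom
      rw [← homEquiv_comp_mapRing, ← homEquiv_comp]
      congr 2
      exact AlgHom.ext fun x => f.commutes x)
  let φ' : A →ₐ[B'] B' ⊗[B] C :=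
    { φ with
      commutes' := fun β => by
        change φ (algebraMap B' A β) = _
        rw [← g.commutes, ← (homEquiv B B' A₀ ψ₀).commutes β]
        exact congr($hφ₂ (algebraMap B' A₀ β)) }
  let F := (homEquiv B B' A).symm φ'
  have hF : F.comp (mapRing g) = ψ₀ := (homEquiv B B' A₀).injective (by
    rw [homEquiv_comp_mapRing, Equiv.apply_symm_apply]
    exact AlgHom.ext fun x => congr($hφ₂ x))
  have hF' : (Ideal.Quotient.mkₐ B I).comp F = f' := (homEquiv B B' A).injective (by
    rw [homEquiv_comp, Equiv.apply_symm_apply]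
    exact AlgHom.ext fun x => congr($hφ₁ x))
  exact ⟨{ F with commutes' := fun x => congr($hF x) }, AlgHom.ext fun x => congr($hF' x)⟩

theorem formallySmooth_univ [Algebra.FormallySmooth B' A] : RingHom.FormallySmooth (R := A) (S := B' ⊗[B] Ring B B' A) (univ B B' A).toRingHom := by
  let : Algebra A (B' ⊗[B] Ring B B' A) := RingHom.toAlgebra (R := A) (S := B' ⊗[B] Ring B B' A) (univ B B' A).toRingHom
  refine Algebra.FormallySmooth.of_comp_surjective fun C _ _ I hI f => ?_
  let : Algebra B' C := ((algebraMap A C).comp (algebraMap B' A)).toAlgebra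
  let : Algebra B C := ((algebraMap B' C).comp (algebraMap B B')).toAlgebra
  have : IsScalarTower B B' C := IsScalarTower.of_algebraMap_eq' rfl
  have hβ : ∀ β : B', f (β ⊗ₜ 1) = Ideal.Quotient.mk I (algebraMap B' C β) := fun β => by
    rw [show (β ⊗ₜ 1 : B' ⊗[B] Ring B B' A) = univ B B' A (algebraMap B' A β) from
      ((univ B B' A).commutes β).symm]
    exact f.commutes (algebraMap B' A β)
  let f₀ : Ring B B' A →ₐ[B] C ⧸ I :=
    { f.toRingHom.comp (Algebra.TensorProduct.includeRight (R := B) (A := B')).toRingHom with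
      commutes' := fun b => by
        change f ((1 : B') ⊗ₜ algebraMap B (Ring B B' A) b) = Ideal.Quotient.mk I (algebraMap B C b)
        rw [Algebra.algebraMap_eq_smul_one b, tmul_smul, smul_tmul', ← Algebra.algebraMap_eq_smul_one, hβ]
        rfl }
  have hf : ∀ z, f z = diag (B := B) (bcMap B B' f₀ z) := fun z => by
    induction z using TensorProduct.induction_on with
    | zero => simp
    | tmul β w =>
      rw [bcMap_tmul, diag_tmul, show (β ⊗ₜ w : B' ⊗[B] Ring B B' A) = (β ⊗ₜ 1) * (1 ⊗ₜ w) by simp,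
        map_mul, hβ]
      rfl
    | add x y hx hy => simp only [map_add, hx, hy]
  let π : B' ⊗[B] C →+* (B' ⊗[B] (C ⧸ I)) × C :=
    (bcMap B B' (Ideal.Quotient.mkₐ B I)).toRingHom.prod (diag (B := B)).toRingHom
  let φ₀ : A →+* (B' ⊗[B] (C ⧸ I)) × C := (homEquiv B B' A f₀).toRingHom.prod (algebraMap A C)
  have hdiag : ∀ z : B' ⊗[B] C, Ideal.Quotient.mk I (diag (B := B) z) =
      diag (B := B) (bcMap B B' (Ideal.Quotient.mkₐ B I) z) := fun z => by
    induction z using TensorProduct.induction_on with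
    | zero => simp
    | tmul β w => simp
    | add x y hx hy => simp only [map_add, hx, hy]
  obtain ⟨φ, hφ₁, hφ₂⟩ := exists_lift_over (algebraMap B' A)
    (RingHom.formallySmooth_algebraMap.mpr inferInstance) π
    (by
      obtain ⟨n, hn⟩ := isNilpotent_ker_bcMap_mk (B := B) (B' := B') I hI
      refine ⟨n, le_bot_iff.mp (le_trans (Ideal.pow_right_mono (fun z hz => ?_) n) hn.le)⟩
      exact congrArg Prod.fst (show π z = 0 from hz))
    (algebraMap B' (B' ⊗[B] C)) φ₀
    (fun a => by
      obtain ⟨d, hd⟩ := bcMap_surjective B B' (Ideal.Quotient.mkₐ B I) Ideal.Quotient.mk_surjective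
        (homEquiv B B' A f₀ a)
      have hmem : algebraMap A C a - diag (B := B) d ∈ I := by
        rw [← Ideal.Quotient.eq_zero_iff_mem, map_sub, hdiag, hd, homEquiv_apply, AlgHom.comp_apply,
          ← hf, sub_eq_zero]
        exact (f.commutes a).symm
      refine ⟨d + 1 ⊗ₜ (algebraMap A C a - diag (B := B) d), Prod.ext ?_ ?_⟩
      · change bcMap B B' _ (d + _) = homEquiv B B' A f₀ a
        rw [map_add, bcMap_tmul, Ideal.Quotient.mkₐ_eq_mk, Ideal.Quotient.eq_zero_iff_mem.mpr hmem,
          tmul_zero, add_zero, hd]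
      · change diag (B := B) (d + _) = algebraMap A C a
        rw [map_add, diag_tmul, map_one, one_mul, add_sub_cancel])
    (RingHom.ext fun β => Prod.ext ((homEquiv B B' A f₀).commutes β)
      (((diag (B := B) (C := C)).commutes β).symm))
  let φ' : A →ₐ[B'] B' ⊗[B] C := { φ with commutes' := fun β => congr($hφ₂ β) }
  let F := (homEquiv B B' A).symm φ'
  have hF : (Ideal.Quotient.mkₐ B I).comp F = f₀ := (homEquiv B B' A).injective (by
    rw [homEquiv_comp, Equiv.apply_symm_apply]
    exact AlgHom.ext fun x => congrArg Prod.fst congr($hφ₁ x))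
  have hu : ∀ a, bcMap B B' F (univ B B' A a) = φ a := fun a =>
    congr($(Equiv.apply_symm_apply (homEquiv B B' A) φ') a)
  refine ⟨{ (diag (B := B) (C := C)).toRingHom.comp (bcMap B B' F).toRingHom with
    commutes' := fun a => ?_ }, AlgHom.ext fun z => ?_⟩
  · change diag (B := B) (bcMap B B' F (univ B B' A a)) = algebraMap A C a
    rw [hu]
    exact congrArg Prod.snd congr($hφ₁ a)
  · change Ideal.Quotient.mk I (diag (B := B) (bcMap B B' F z)) = f z
    rw [hdiag, hf, ← hF, ← bcMap_comp]
    rfl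

theorem finitePresentation_univ [IsNoetherianRing B'] [Algebra.FiniteType B' A] :
    RingHom.FinitePresentation (A := A) (B := B' ⊗[B] Ring B B' A) (univ B B' A).toRingHom := by
  have : IsNoetherianRing A := Algebra.FiniteType.isNoetherianRing B' A
  rw [← RingHom.FinitePresentation.of_finiteType]
  have := finiteType B B' A
  refine RingHom.FiniteType.of_comp_finiteType (f := algebraMap B' A) ?_
  change RingHom.FiniteType (A := B') (B := B' ⊗[B] Ring B B' A) ((univ B B' A).toRingHom.comp (algebraMap B' A))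
  rw [show (univ B B' A).toRingHom.comp (algebraMap B' A) = algebraMap B' _ from (univ B B' A).comp_algebraMap]
  exact RingHom.finiteType_algebraMap.mpr inferInstance

theorem finitePresentation_mapRing [IsNoetherianRing B] [Algebra.FiniteType B' A₀] [Algebra.FiniteType B' A]
    (g : A₀ →ₐ[B'] A) : (mapRing (B := B) g).toRingHom.FinitePresentation := by
  have := finiteType B B' A₀
  have : IsNoetherianRing (Ring B B' A₀) := Algebra.FiniteType.isNoetherianRing B _
  rw [← RingHom.FinitePresentation.of_finiteType]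
  have := finiteType B B' A
  refine RingHom.FiniteType.of_comp_finiteType (f := algebraMap B (Ring B B' A₀)) ?_
  rw [show (mapRing (B := B) g).toRingHom.comp (algebraMap B _) = algebraMap B _ from (mapRing g).comp_algebraMap]
  exact RingHom.finiteType_algebraMap.mpr inferInstance

section points

variable {K : Type u} [Field K] [IsAlgClosed K]

theorem exists_point_of_mem_range (g : A₀ →+* A) (hg : g.FiniteType) (x : A₀ →+* K)
    (hx : ⟨RingHom.ker x, RingHom.ker_isPrime x⟩ ∈ Set.range (PrimeSpectrum.comap g)) :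
    ∃ y : A →+* K, y.comp g = x := by
  let : Algebra A₀ A := g.toAlgebra
  let : Algebra A₀ K := x.toAlgebra
  have : Algebra.FiniteType A₀ A := hg
  let p : PrimeSpectrum A₀ := ⟨RingHom.ker x, RingHom.ker_isPrime x⟩
  have : p.asIdeal.IsPrime := p.isPrime
  let j : p.asIdeal.ResidueField →+* K := Ideal.ResidueField.lift p.asIdeal x le_rfl (fun a ha => by
    exact IsUnit.mk0 _ ha)
  let : Algebra p.asIdeal.ResidueField K := j.toAlgebra
  have : IsScalarTower A₀ p.asIdeal.ResidueField K :=
    IsScalarTower.of_algebraMap_eq fun a => (Ideal.ResidueField.lift_algebraMap _ _ _ _ a).symm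
  have : Nontrivial (p.asIdeal.ResidueField ⊗[A₀] A) :=
    (PrimeSpectrum.nontrivial_iff_mem_rangeComap p).mpr hx
  have : Nontrivial (K ⊗[A₀] A) := (Algebra.TensorProduct.cancelBaseChange A₀ p.asIdeal.ResidueField K K A).symm.toEquiv.nontrivial
  obtain ⟨m, hm⟩ := Ideal.exists_maximal (K ⊗[A₀] A)
  let : Field ((K ⊗[A₀] A) ⧸ m) := Ideal.Quotient.field m
  have : Algebra.FiniteType K ((K ⊗[A₀] A) ⧸ m) :=
    Algebra.FiniteType.of_surjective (Ideal.Quotient.mkₐ K m) Ideal.Quotient.mk_surjective
  have : Module.Finite K ((K ⊗[A₀] A) ⧸ m) := finite_of_finite_type_of_isJacobsonRing _ _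
  let ev := RingEquiv.ofBijective (algebraMap K ((K ⊗[A₀] A) ⧸ m))
    IsAlgClosed.algebraMap_bijective_of_isIntegral
  refine ⟨ev.symm.toRingHom.comp ((Ideal.Quotient.mk m).comp
    (Algebra.TensorProduct.includeRight (R := A₀) (A := K) (B := A)).toRingHom), RingHom.ext fun a => ?_⟩
  apply ev.injective
  change ev (ev.symm _) = ev _
  rw [RingEquiv.apply_symm_apply]
  change Ideal.Quotient.mk m (1 ⊗ₜ g a) = Ideal.Quotient.mk m (x a ⊗ₜ 1)
  congr 1
  rw [show g a = a • (1 : A) from (mul_one _).symm, tmul_smul, smul_tmul']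
  exact congrArg (· ⊗ₜ[A₀] (1 : A)) (mul_one (x a))

variable (K) {D : Type u} [CommRing D] [Algebra K D] [Module.Finite K D]

include K

/-- lifting of a family of points at the maximal ideals of a finite algebra over a field -/
theorem exists_lift_of_points (g : A₀ →+* A) (hg : g.FormallySmooth) (ψ : A₀ →+* D)
    (φn : ∀ n : MaximalSpectrum D, A →+* D ⧸ n.asIdeal)
    (hc : ∀ n, (φn n).comp g = (Ideal.Quotient.mk n.asIdeal).comp ψ) :
    ∃ φ : A →+* D, (∀ n, (Ideal.Quotient.mk n.asIdeal).comp φ = φn n) ∧ φ.comp g = ψ := by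
  have : IsArtinianRing D := IsArtinianRing.of_finite K D
  let π : D →+* ∀ n : MaximalSpectrum D, D ⧸ n.asIdeal := RingHom.pi fun n => Ideal.Quotient.mk n.asIdeal
  have hco : Pairwise fun n n' : MaximalSpectrum D => IsCoprime n.asIdeal n'.asIdeal := fun n n' hne =>
    Ideal.isCoprime_iff_sup_eq.mpr <| n.isMaximal.coprime_of_ne n'.isMaximal fun h => hne (MaximalSpectrum.ext h)
  have hsurj : Function.Surjective π := fun y => by
    obtain ⟨z, hz⟩ := Ideal.quotientInfToPiQuotient_surj hco y
    obtain ⟨d, rfl⟩ := Ideal.Quotient.mk_surjective z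
    exact ⟨d, funext fun n => congrFun hz n⟩
  obtain ⟨φ, hφ₁, hφ₂⟩ := exists_lift_over g hg π (by
      obtain ⟨k, hk⟩ := IsArtinianRing.isNilpotent_nilradical (R := D)
      refine ⟨k, le_bot_iff.mp (le_trans (Ideal.pow_right_mono (fun d hd => ?_) k) hk.le)⟩
      rw [nilradical_eq_sInf, Submodule.mem_sInf]
      intro P hP
      have hd' : π d = 0 := hd
      exact Ideal.Quotient.eq_zero_iff_mem.mp
        (congrFun hd' ⟨P, (IsArtinianRing.isPrime_iff_isMaximal P).mp hP⟩))
    ψ (RingHom.pi φn) (fun a => hsurj _) (RingHom.ext fun a => funext fun n => congr($(hc n) a))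
  exact ⟨φ, fun n => RingHom.ext fun a => congrFun congr($hφ₁ a) n, hφ₂⟩

/-- a point at a maximal ideal of a finite algebra over an algebraically closed field -/
theorem exists_point_mod (g : A₀ →+* A) (hg : g.FiniteType)
    (hsurj : Function.Surjective (PrimeSpectrum.comap g)) (ψ : A₀ →+* D) (n : MaximalSpectrum D) :
    ∃ y : A →+* D ⧸ n.asIdeal, y.comp g = (Ideal.Quotient.mk n.asIdeal).comp ψ := by
  let : Field (D ⧸ n.asIdeal) := Ideal.Quotient.field n.asIdeal
  have : IsAlgClosed (D ⧸ n.asIdeal) :=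
    IsAlgClosed.of_ringEquiv K _ (RingEquiv.ofBijective _ (IsAlgClosed.algebraMap_bijective_of_isIntegral (k := K) (K := D ⧸ n.asIdeal)))
  exact exists_point_of_mem_range g hg _ (hsurj _)

end points

end Groth.Agent.WeilRes21

end
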