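import Groth.Agent.Lib.WeilRes21.Scheme
import Groth.Agent.Lib.WeilRes21.Lift
import Mathlib.RingTheory.Flat.EquationalCriterion
import Mathlib.AlgebraicGeometry.Morphisms.Smooth
import Mathlib.AlgebraicGeometry.Morphisms.UnderlyingMap
import Mathlib.AlgebraicGeometry.Morphisms.FiniteType

/-!
Properties of the counit and of the functoriality maps of a Weil restriction along a finite flat
extension of noetherian rings.
-/

universe u

open CategoryTheory CategoryTheory.Limits AlgebraicGeometry TensorProduct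

set_option backward.isDefEq.respectTransparency false

noncomputable section

namespace Groth.Agent.WeilRes21

theorem projective_of_flat (B B' : Type u) [CommRing B] [CommRing B'] [Algebra B B'] [IsNoetherianRing B]
    [Module.Finite B B'] [Module.Flat B B'] : Module.Projective B B' :=
  have := Module.finitePresentation_of_finite B B'
  Module.Flat.projective_of_finitePresentation

variable {B B' : Type u} [CommRing B] [CommRing B'] [Algebra B B']

section specOver

variable {A : Type u} [CommRing A] [Algebra B' A] {X' : Over (Spec (CommRingCat.of B'))} (i : X' ≅ specOver B' A)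

include i

theorem structure_iff (P : MorphismProperty Scheme.{u}) [P.RespectsIso] :
    P X'.hom ↔ P (Spec.map (CommRingCat.ofHom (algebraMap B' A))) := by
  rw [← Over.w i.hom]
  have : IsIso i.hom.left := inferInstanceAs (IsIso ((Over.forget _).map i.hom))
  exact P.cancel_left_of_respectsIso _ _

theorem finiteType_of_locallyOfFiniteType [h : LocallyOfFiniteType X'.hom] : Algebra.FiniteType B' A :=
  RingHom.finiteType_algebraMap.mp
    ((HasRingHomProperty.Spec_iff (P := @LocallyOfFiniteType)).mp ((structure_iff i @LocallyOfFiniteType).mp h))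

theorem smooth_of_smooth [h : Smooth X'.hom] : Algebra.Smooth B' A :=
  RingHom.smooth_algebraMap.mp
    ((HasRingHomProperty.Spec_iff (P := @Smooth)).mp ((structure_iff i @Smooth).mp h))

theorem comap_surjective_of_surjective [h : Surjective X'.hom] :
    Function.Surjective (PrimeSpectrum.comap (algebraMap B' A)) :=
  ((structure_iff i @Surjective).mp h).surj

end specOver

variable [Module.Finite B B'] [Module.Projective B B'] {A A₀ : Type u} [CommRing A] [Algebra B' A]
  [CommRing A₀] [Algebra B' A₀]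

section points

variable {K : Type u} [Field K] [Algebra B K]

/-- `B' ⊗ K` as a finite `K`-algebra -/
abbrev rightAlg : Algebra K (B' ⊗[B] K) :=
  (Algebra.TensorProduct.includeRight (R := B) (A := B') (B := K)).toRingHom.toAlgebra

theorem finite_rightAlg : @Module.Finite K (B' ⊗[B] K) _ _ (rightAlg (B := B) (B' := B') (K := K)).toModule := by
  classical
  let : Algebra K (B' ⊗[B] K) := rightAlg
  refine ⟨⟨Finset.univ.image fun i => elt B B' i ⊗ₜ (1 : K), eq_top_iff.mpr fun z _ => ?_⟩⟩
  rw [← sum_coord B B' z]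
  refine Submodule.sum_mem _ fun i _ => ?_
  rw [show elt B B' i ⊗ₜ coord B B' i z = (coord B B' i z) • (elt B B' i ⊗ₜ (1 : K)) by
    rw [Algebra.smul_def]
    change _ = (1 ⊗ₜ[B] coord B B' i z) * _
    simp]
  exact Submodule.smul_mem _ _ (Submodule.subset_span (Finset.mem_coe.mpr
    (Finset.mem_image_of_mem _ (Finset.mem_univ i))))

end points

theorem exists_point_extend [Algebra.Smooth B' A]
    (hsurj : Function.Surjective (PrimeSpectrum.comap (algebraMap B' A))) {K : Type u} [Field K] [IsAlgClosed K]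
    [Algebra B K] [Algebra B' K] [IsScalarTower B B' K] (x : A →ₐ[B'] K) :
    ∃ φ : A →ₐ[B'] B' ⊗[B] K, ∀ a, diag (B := B) (φ a) = x a := by
  classical
  let : Algebra K (B' ⊗[B] K) := rightAlg
  have := finite_rightAlg (B := B) (B' := B') (K := K)
  have hδ : Function.Surjective (diag (B := B) : B' ⊗[B] K →ₐ[B'] K) := fun c => ⟨1 ⊗ₜ c, by simp⟩
  let n₀ : MaximalSpectrum (B' ⊗[B] K) :=
    ⟨RingHom.ker (diag (B := B) : B' ⊗[B] K →ₐ[B'] K).toRingHom, RingHom.ker_isMaximal_of_surjective _ hδ⟩
  let ψ : B' →+* B' ⊗[B] K := algebraMap B' _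
  have hft : (algebraMap B' A).FiniteType := RingHom.finiteType_algebraMap.mpr inferInstance
  have hpt : ∀ n : MaximalSpectrum (B' ⊗[B] K), ∃ y : A →+* (B' ⊗[B] K) ⧸ n.asIdeal,
      y.comp (algebraMap B' A) = (Ideal.Quotient.mk n.asIdeal).comp ψ ∧
        (n = n₀ → ∀ a, y a = Ideal.Quotient.mk n.asIdeal (1 ⊗ₜ x a)) := by
    intro n
    by_cases hn : n = n₀
    · subst hn
      refine ⟨(Ideal.Quotient.mk _).comp
        ((Algebra.TensorProduct.includeRight (R := B) (A := B') (B := K)).toRingHom.comp x.toRingHom),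
        RingHom.ext fun β => Ideal.Quotient.eq.mpr ?_, fun _ _ => rfl⟩
      change diag (B := B) (1 ⊗ₜ x (algebraMap B' A β) - β ⊗ₜ 1 : B' ⊗[B] K) = 0
      rw [map_sub, sub_eq_zero]
      simp
    · obtain ⟨y, hy⟩ := exists_point_mod K (algebraMap B' A) hft hsurj ψ n
      exact ⟨y, hy, fun h => absurd h hn⟩
  choose y hy₁ hy₂ using hpt
  obtain ⟨φ, hφ₁, hφ₂⟩ := exists_lift_of_points K (algebraMap B' A)
    (RingHom.formallySmooth_algebraMap.mpr inferInstance) ψ y hy₁
  refine ⟨{ φ with commutes' := fun β => congr($hφ₂ β) }, fun a => ?_⟩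
  have h1 : φ a - 1 ⊗ₜ x a ∈ n₀.asIdeal :=
    Ideal.Quotient.eq.mp ((congr($(hφ₁ n₀) a)).trans (hy₂ n₀ rfl a))
  have h2 : diag (B := B) (φ a - 1 ⊗ₜ x a) = 0 := h1
  rw [map_sub, sub_eq_zero] at h2
  refine h2.trans ?_
  simp

theorem comap_univ_surjective [Algebra.Smooth B' A]
    (hsurj : Function.Surjective (PrimeSpectrum.comap (algebraMap B' A))) :
    Function.Surjective (PrimeSpectrum.comap (R := A) (S := B' ⊗[B] Ring B B' A) (univ B B' A).toRingHom) := by
  intro P
  let K := AlgebraicClosure P.asIdeal.ResidueField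
  let x : A →ₐ[B'] K := IsScalarTower.toAlgHom B' A K
  let : Algebra B K := ((algebraMap B' K).comp (algebraMap B B')).toAlgebra
  have : IsScalarTower B B' K := IsScalarTower.of_algebraMap_eq fun _ => rfl
  obtain ⟨φ, hφ⟩ := exists_point_extend (B := B) hsurj x
  let Q : B' ⊗[B] Ring B B' A →+* K :=
    (diag (B := B)).toRingHom.comp (bcMap B B' ((homEquiv B B' A).symm φ)).toRingHom
  refine ⟨⟨RingHom.ker Q, RingHom.ker_isPrime Q⟩, PrimeSpectrum.ext (Ideal.ext fun a => ?_)⟩
  change diag (B := B) (((homEquiv B B' A) ((homEquiv B B' A).symm φ)) a) = 0 ↔ _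
  rw [Equiv.apply_symm_apply, hφ]
  change algebraMap A K a = 0 ↔ _
  rw [IsScalarTower.algebraMap_apply A P.asIdeal.ResidueField K, FaithfulSMul.algebraMap_eq_zero_iff,
    Ideal.algebraMap_residueField_eq_zero]

theorem comap_mapRing_surjective [Algebra.FiniteType B' A] (g : A₀ →ₐ[B'] A) (hg : g.toRingHom.FormallySmooth)
    (hft : g.toRingHom.FiniteType) (hsurj : Function.Surjective (PrimeSpectrum.comap g.toRingHom)) :
    Function.Surjective (PrimeSpectrum.comap (mapRing (B := B) g).toRingHom) := by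
  intro P
  let K := AlgebraicClosure P.asIdeal.ResidueField
  let x : Ring B B' A₀ →+* K := (algebraMap P.asIdeal.ResidueField K).comp (algebraMap _ _)
  let : Algebra B K := (x.comp (algebraMap B (Ring B B' A₀))).toAlgebra
  let x' : Ring B B' A₀ →ₐ[B] K := { x with commutes' := fun _ => rfl }
  let : Algebra K (B' ⊗[B] K) := rightAlg
  have := finite_rightAlg (B := B) (B' := B') (K := K)
  let ψ := homEquiv B B' A₀ x'
  choose y hy using fun n : MaximalSpectrum (B' ⊗[B] K) => exists_point_mod K g.toRingHom hft hsurj ψ.toRingHom n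
  obtain ⟨φ, -, hφ₂⟩ := exists_lift_of_points K g.toRingHom hg ψ.toRingHom y hy
  let φ' : A →ₐ[B'] B' ⊗[B] K :=
    { φ with
      commutes' := fun β => by
        change φ (algebraMap B' A β) = _
        rw [← g.commutes, ← ψ.commutes β]
        exact congr($hφ₂ (algebraMap B' A₀ β)) }
  have hF : ((homEquiv B B' A).symm φ').comp (mapRing g) = x' := (homEquiv B B' A₀).injective (by
    rw [homEquiv_comp_mapRing, Equiv.apply_symm_apply]
    exact AlgHom.ext fun a => congr($hφ₂ a))
  refine ⟨⟨RingHom.ker ((homEquiv B B' A).symm φ').toRingHom, RingHom.ker_isPrime _⟩,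
    PrimeSpectrum.ext (Ideal.ext fun w => ?_)⟩
  change (((homEquiv B B' A).symm φ').comp (mapRing g)) w = 0 ↔ _
  rw [hF]
  change x w = 0 ↔ _
  simp [x, Ideal.algebraMap_residueField_eq_zero]

variable {X' Y' : Over (Spec (CommRingCat.of B'))} {R RX RY : Over (Spec (CommRingCat.of B))}
  (i : X' ≅ specOver B' A) (i₀ : Y' ≅ specOver B' A₀)
  (eX : ∀ Y : Over (Spec (CommRingCat.of B)), (Y ⟶ RX) ≃ ((bcF B B').obj Y ⟶ X'))
  (heX : ∀ (Y Z : Over (Spec (CommRingCat.of B))) (h : Y ⟶ Z) (g : Z ⟶ RX),
    eX Y (h ≫ g) = (bcF B B').map h ≫ eX Z g)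
  (eY : ∀ Y : Over (Spec (CommRingCat.of B)), (Y ⟶ RY) ≃ ((bcF B B').obj Y ⟶ Y'))
  (heY : ∀ (Y Z : Over (Spec (CommRingCat.of B))) (h : Y ⟶ Z) (g : Z ⟶ RY),
    eY Y (h ≫ g) = (bcF B B').map h ≫ eY Z g)

/-- the map of rings of a morphism -/
def ringMap (f' : X' ⟶ Y') : A₀ →ₐ[B'] A := algHomEquiv (i.inv ≫ f' ≫ i₀.hom)

theorem specMap_ringMap (f' : X' ⟶ Y') : specMap (ringMap i i₀ f') = i.inv ≫ f' ≫ i₀.hom :=
  algHomEquiv.symm_apply_apply _

theorem ringMap_iff (f' : X' ⟶ Y') (P : MorphismProperty Scheme.{u}) [P.RespectsIso] :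
    P f'.left ↔ P (Spec.map (CommRingCat.ofHom (ringMap i i₀ f').toRingHom)) := by
  have h := congrArg CommaMorphism.left (specMap_ringMap i i₀ f')
  simp only [Over.comp_left, specMap_left] at h
  have : IsIso i.inv.left := inferInstanceAs (IsIso ((Over.forget _).map i.inv))
  have : IsIso i₀.hom.left := inferInstanceAs (IsIso ((Over.forget _).map i₀.hom))
  rw [h, P.cancel_left_of_respectsIso, P.cancel_right_of_respectsIso]

include heX heY

theorem toR_map (f' : X' ⟶ Y') :
    toR i eX ≫ (eY RX).symm (eX RX (𝟙 RX) ≫ f') = specMap (mapRing (ringMap i i₀ f')) ≫ toR i₀ eY := by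
  apply (ptEquiv i₀ eY (Ring B B' A)).injective
  rw [ptEquiv_specMap_toR i₀ eY heY]
  change _ = homEquiv B B' A₀ ((homEquiv B B' A₀).symm _)
  rw [Equiv.apply_symm_apply, ← ptEquiv_toR i eX]
  simp only [ptEquiv, Equiv.trans_apply, Iso.homCongr_apply, heY, Equiv.apply_symm_apply]
  rw [← Category.assoc ((bcF B B').map _), ← heX, Category.comp_id]
  apply algHomEquiv.symm.injective
  simp only [Equiv.symm_apply_apply]
  rw [algHomEquiv_symm_apply, ← specMap_comp, specMap_ringMap, ← algHomEquiv_symm_apply, Equiv.symm_apply_apply]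
  simp

theorem map_iff (f' : X' ⟶ Y') (P : MorphismProperty Scheme.{u}) [P.RespectsIso] :
    P ((eY RX).symm (eX RX (𝟙 RX) ≫ f')).left ↔
      P (Spec.map (CommRingCat.ofHom (mapRing (B := B) (ringMap i i₀ f')).toRingHom)) := by
  have := isIso_toR i eX heX
  have := isIso_toR i₀ eY heY
  have : IsIso (toR i eX).left := inferInstanceAs (IsIso ((Over.forget _).map (toR i eX)))
  have : IsIso (toR i₀ eY).left := inferInstanceAs (IsIso ((Over.forget _).map (toR i₀ eY)))
  have h := congrArg CommaMorphism.left (toR_map i i₀ eX heX eY heY f')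
  simp only [Over.comp_left, specMap_left] at h
  rw [← P.cancel_left_of_respectsIso (toR i eX).left, h, P.cancel_right_of_respectsIso]

end Groth.Agent.WeilRes21

end
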