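import Groth.Agent.Lib.WeilRes21.Ring
import Mathlib.AlgebraicGeometry.Pullbacks
import Mathlib.AlgebraicGeometry.Gluing
import Mathlib.AlgebraicGeometry.Morphisms.FinitePresentation

/-!
An `S`-scheme `R` with a natural bijection `(Y ⟶ R) ≃ (Y ×_S S' ⟶ X')` is `Spec` of the Weil
restriction of rings, for `S' = Spec B'` finite projective over `S = Spec B` and `X' = Spec A`.
-/

universe u

open CategoryTheory CategoryTheory.Limits AlgebraicGeometry TensorProduct

noncomputable section

namespace Groth.Agent.WeilRes21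

/-- `Spec C` over `Spec B` -/
abbrev specOver (B C : Type u) [CommRing B] [CommRing C] [Algebra B C] :
    Over (Spec (CommRingCat.of B)) :=
  Over.mk (Spec.map (CommRingCat.ofHom (algebraMap B C)))

section

variable {B C C' : Type u} [CommRing B] [CommRing C] [CommRing C'] [Algebra B C] [Algebra B C']

def specMap (ψ : C →ₐ[B] C') : specOver B C' ⟶ specOver B C :=
  Over.homMk (Spec.map (CommRingCat.ofHom ψ.toRingHom)) (by
    change Spec.map _ ≫ Spec.map _ = Spec.map _
    rw [← Spec.map_comp, ← CommRingCat.ofHom_comp]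
    congr 2
    exact ψ.comp_algebraMap)

@[simp]
theorem specMap_left (ψ : C →ₐ[B] C') :
    (specMap ψ).left = Spec.map (CommRingCat.ofHom ψ.toRingHom) := rfl

instance : IsAffine (specOver B C).left := inferInstanceAs (IsAffine (Spec _))

theorem specMap_comp {C'' : Type u} [CommRing C''] [Algebra B C''] (ψ : C →ₐ[B] C') (χ : C' →ₐ[B] C'') :
    specMap χ ≫ specMap ψ = specMap (χ.comp ψ) := by
  ext : 1
  change Spec.map _ ≫ Spec.map _ = Spec.map _
  rw [← Spec.map_comp]
  rfl

theorem specMap_id : specMap (AlgHom.id B C) = 𝟙 _ := by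
  ext : 1
  change Spec.map _ = 𝟙 _
  exact Spec.map_id _

/-- morphisms of affine schemes over `B` are algebra maps -/
def algHomEquiv : (specOver B C' ⟶ specOver B C) ≃ (C →ₐ[B] C') where
  toFun g :=
    { (Spec.preimage g.left).hom with
      commutes' := fun b => by
        have e : CommRingCat.ofHom (algebraMap B C) ≫ Spec.preimage g.left =
            CommRingCat.ofHom (algebraMap B C') := Spec.map_injective (by
          rw [Spec.map_comp, Spec.map_preimage]
          exact Over.w g)
        exact congr($(e).hom b) }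
  invFun := specMap
  left_inv g := by
    ext : 1
    exact Spec.map_preimage g.left
  right_inv ψ := by
    refine AlgHom.ext fun x => ?_
    change (Spec.preimage (Spec.map (CommRingCat.ofHom ψ.toRingHom))).hom x = ψ x
    rw [Spec.preimage_map]
    rfl

theorem algHomEquiv_symm_apply (ψ : C →ₐ[B] C') : algHomEquiv.symm ψ = specMap ψ := rfl

theorem algHomEquiv_specMap_comp {A : Type u} [CommRing A] [Algebra B A] (ψ : C →ₐ[B] C')
    (g : specOver B C ⟶ specOver B A) : algHomEquiv (specMap ψ ≫ g) = ψ.comp (algHomEquiv g) := by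
  apply algHomEquiv.symm.injective
  rw [Equiv.symm_apply_apply, algHomEquiv_symm_apply, ← specMap_comp]
  congr 1
  exact (algHomEquiv.symm_apply_apply g).symm

/-- an affine scheme over `Spec B` is a `specOver` -/
theorem exists_iso_specOver (Y : Over (Spec (CommRingCat.of B))) [IsAffine Y.left] :
    ∃ (A : Type u) (_ : CommRing A) (_ : Algebra B A), Nonempty (Y ≅ specOver B A) := by
  let φ := Spec.preimage (Y.left.isoSpec.inv ≫ Y.hom)
  let _ : Algebra B Γ(Y.left, ⊤) := φ.hom.toAlgebra
  refine ⟨Γ(Y.left, ⊤), inferInstance, inferInstance, ⟨Over.isoMk Y.left.isoSpec ?_⟩⟩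
  change _ ≫ Spec.map φ = _
  rw [Spec.map_preimage, Iso.hom_inv_id_assoc]

end

/-- A morphism out of an affine scheme over `S` inducing bijections on affine points is an isomorphism. -/
theorem isIso_of_bijective_affine {S : Scheme.{u}} {W R : Over S} [IsAffine W.left] (w : W ⟶ R)
    (h : ∀ Y : Over S, IsAffine Y.left → Function.Bijective fun g : Y ⟶ W => g ≫ w) : IsIso w := by
  let 𝒰 := R.left.affineCover
  let Y : 𝒰.I₀ → Over S := fun i => Over.mk (𝒰.f i ≫ R.hom)
  choose s hs using fun i => (h (Y i) (inferInstanceAs (IsAffine (𝒰.X i)))).2 (Over.homMk (𝒰.f i) rfl)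
  have hs' : ∀ i, (s i).left ≫ w.left = 𝒰.f i := fun i => congrArg CommaMorphism.left (hs i)
  have hcompat : ∀ i j, pullback.fst (𝒰.f i) (𝒰.f j) ≫ (s i).left =
      pullback.snd (𝒰.f i) (𝒰.f j) ≫ (s j).left := by
    intro i j
    refine Scheme.Cover.hom_ext (pullback (𝒰.f i) (𝒰.f j)).affineCover _ _ fun l => ?_
    set c := (pullback (𝒰.f i) (𝒰.f j)).affineCover.f l
    let Z : Over S := Over.mk (c ≫ pullback.fst _ _ ≫ 𝒰.f i ≫ R.hom)
    have w₁ : (c ≫ pullback.fst _ _ ≫ (s i).left) ≫ W.hom = Z.hom := by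
      simp only [Category.assoc, Over.w (s i)]
      rfl
    have w₂ : (c ≫ pullback.snd _ _ ≫ (s j).left) ≫ W.hom = Z.hom := by
      simp only [Category.assoc, Over.w (s j)]
      change c ≫ pullback.snd _ _ ≫ 𝒰.f j ≫ R.hom = c ≫ pullback.fst _ _ ≫ 𝒰.f i ≫ R.hom
      rw [← pullback.condition_assoc]
    have e := (h Z (inferInstanceAs (IsAffine ((pullback (𝒰.f i) (𝒰.f j)).affineCover.X l)))).1
      (a₁ := Over.homMk _ w₁) (a₂ := Over.homMk _ w₂) (by
        ext : 1
        change (c ≫ pullback.fst _ _ ≫ (s i).left) ≫ w.left = (c ≫ pullback.snd _ _ ≫ (s j).left) ≫ w.left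
        simp only [Category.assoc, hs', pullback.condition])
    exact congrArg CommaMorphism.left e
  let v := 𝒰.glueMorphisms (fun i => (s i).left) hcompat
  have hv : ∀ i, 𝒰.f i ≫ v = (s i).left := 𝒰.ι_glueMorphisms _ hcompat
  have hvS : v ≫ W.hom = R.hom := Scheme.Cover.hom_ext 𝒰 _ _ fun i => by
    rw [← Category.assoc, hv]
    exact Over.w (s i)
  refine ⟨⟨Over.homMk v hvS, ?_, ?_⟩⟩
  · refine (h W inferInstance).1 ?_
    change (w ≫ Over.homMk v hvS) ≫ w = 𝟙 W ≫ w
    rw [Category.id_comp, Category.assoc]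
    conv_rhs => rw [← Category.comp_id w]
    congr 1
    ext : 1
    refine Scheme.Cover.hom_ext 𝒰 _ _ fun i => ?_
    change 𝒰.f i ≫ v ≫ w.left = 𝒰.f i ≫ 𝟙 _
    rw [← Category.assoc, hv, hs', Category.comp_id]
  · ext : 1
    refine Scheme.Cover.hom_ext 𝒰 _ _ fun i => ?_
    change 𝒰.f i ≫ v ≫ w.left = 𝒰.f i ≫ 𝟙 _
    rw [← Category.assoc, hv, hs', Category.comp_id]

section

variable (B B' : Type u) [CommRing B] [CommRing B'] [Algebra B B']

/-- base change along `Spec B' ⟶ Spec B` -/
abbrev bcF : Over (Spec (CommRingCat.of B)) ⥤ Over (Spec (CommRingCat.of B')) :=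
  Over.pullback (Spec.map (CommRingCat.ofHom (algebraMap B B')))

/-- base change of an affine scheme -/
def bcPt (C : Type u) [CommRing C] [Algebra B C] :
    (bcF B B').obj (specOver B C) ≅ specOver B' (B' ⊗[B] C) :=
  Over.isoMk (pullbackSymmetry _ _ ≪≫ pullbackSpecIso B B' C) (by
    change ((pullbackSymmetry _ _).hom ≫ (pullbackSpecIso B B' C).hom) ≫ Spec.map _ = pullback.snd _ _
    rw [Category.assoc, pullbackSpecIso_hom_fst', pullbackSymmetry_hom_comp_fst])

theorem bcPt_hom_left (C : Type u) [CommRing C] [Algebra B C] :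
    (bcPt B B' C).hom.left = (pullbackSymmetry _ _).hom ≫ (pullbackSpecIso B B' C).hom := rfl

variable {B B'}

theorem bcPt_natural {C C' : Type u} [CommRing C] [Algebra B C] [CommRing C'] [Algebra B C']
    (ψ : C →ₐ[B] C') :
    (bcF B B').map (specMap ψ) ≫ (bcPt B B' C).hom =
      (bcPt B B' C').hom ≫ specMap (bcMap B B' ψ) := by
  ext : 1
  rw [← cancel_mono (pullbackSymmetry _ _ ≪≫ pullbackSpecIso B B' C).inv]
  refine pullback.hom_ext ?_ ?_
  · simp only [Over.comp_left, bcPt_hom_left, specMap_left, Iso.trans_inv, Category.assoc,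
      pullbackSymmetry_inv_comp_fst, pullbackSpecIso_inv_snd, pullbackSpecIso_hom_snd,
      Iso.hom_inv_id_assoc]
    rw [← Spec.map_comp, pullbackSymmetry_hom_comp_snd]
    erw [pullback.lift_fst]
    erw [show CommRingCat.ofHom (Algebra.TensorProduct.includeRight (R := B) (A := B') (B := C)).toRingHom ≫
        CommRingCat.ofHom (bcMap B B' ψ).toRingHom =
        CommRingCat.ofHom ψ.toRingHom ≫
          CommRingCat.ofHom (Algebra.TensorProduct.includeRight (R := B) (A := B') (B := C')).toRingHom from rfl,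
      Spec.map_comp, pullbackSpecIso_hom_snd_assoc, pullbackSymmetry_hom_comp_snd_assoc]
    rfl
  · simp only [Over.comp_left, bcPt_hom_left, specMap_left, Iso.trans_inv, Category.assoc,
      pullbackSymmetry_inv_comp_snd, pullbackSpecIso_inv_fst', Iso.hom_inv_id_assoc]
    rw [← Spec.map_comp, show CommRingCat.ofHom (algebraMap B' (B' ⊗[B] C)) ≫
        CommRingCat.ofHom (bcMap B B' ψ).toRingHom = CommRingCat.ofHom (algebraMap B' (B' ⊗[B] C')) from CommRingCat.hom_ext (bcMap B B' ψ).comp_algebraMap,
      pullbackSpecIso_hom_fst', pullbackSymmetry_hom_comp_fst, pullbackSymmetry_hom_comp_fst]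
    erw [pullback.lift_snd]
    rfl

variable [Module.Finite B B'] [Module.Projective B B']
  {X' : Over (Spec (CommRingCat.of B'))} {A : Type u} [CommRing A] [Algebra B' A] (i : X' ≅ specOver B' A)
  {R : Over (Spec (CommRingCat.of B))}
  (e : ∀ Y : Over (Spec (CommRingCat.of B)), (Y ⟶ R) ≃ ((bcF B B').obj Y ⟶ X'))
  (he : ∀ (Y Z : Over (Spec (CommRingCat.of B))) (h : Y ⟶ Z) (g : Z ⟶ R),
    e Y (h ≫ g) = (bcF B B').map h ≫ e Z g)

/-- affine points of `R` -/
def ptEquiv (C : Type u) [CommRing C] [Algebra B C] :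
    (specOver B C ⟶ R) ≃ (A →ₐ[B'] B' ⊗[B] C) :=
  ((e (specOver B C)).trans (Iso.homCongr (bcPt B B' C) i)).trans algHomEquiv

include he

theorem ptEquiv_natural {C C' : Type u} [CommRing C] [Algebra B C] [CommRing C'] [Algebra B C']
    (ψ : C →ₐ[B] C') (g : specOver B C ⟶ R) :
    ptEquiv i e C' (specMap ψ ≫ g) = (bcMap B B' ψ).comp (ptEquiv i e C g) := by
  simp only [ptEquiv, Equiv.trans_apply, Iso.homCongr_apply]
  rw [← algHomEquiv_specMap_comp]
  refine congrArg algHomEquiv ?_
  rw [he]
  simp only [← Category.assoc]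
  refine congrArg (fun t => (t ≫ _) ≫ i.hom) ?_
  rw [Iso.eq_comp_inv, Category.assoc, bcPt_natural, Iso.inv_hom_id_assoc]

omit he

/-- the comparison map -/
def toR : specOver B (Ring B B' A) ⟶ R := (ptEquiv i e _).symm (univ B B' A)

theorem ptEquiv_toR : ptEquiv i e _ (toR i e) = univ B B' A := Equiv.apply_symm_apply _ _

include he

theorem ptEquiv_specMap_toR {C : Type u} [CommRing C] [Algebra B C] (ψ : Ring B B' A →ₐ[B] C) :
    ptEquiv i e C (specMap ψ ≫ toR i e) = homEquiv B B' A ψ := by
  rw [ptEquiv_natural i e he, ptEquiv_toR, homEquiv_apply]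

theorem isIso_toR : IsIso (toR i e) := by
  refine isIso_of_bijective_affine _ fun Y hY => ?_
  obtain ⟨C, _, _, ⟨j⟩⟩ := exists_iso_specOver Y
  have hb : Function.Bijective fun g : specOver B C ⟶ specOver B (Ring B B' A) => g ≫ toR i e := by
    have : (fun g : specOver B C ⟶ specOver B (Ring B B' A) => g ≫ toR i e) =
        (algHomEquiv.trans ((homEquiv B B' A).trans (ptEquiv i e C).symm)) := funext fun g => by
      obtain ⟨ψ, rfl⟩ := algHomEquiv.symm.surjective g
      simp only [Equiv.trans_apply, Equiv.apply_symm_apply, Equiv.eq_symm_apply]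
      exact ptEquiv_specMap_toR i e he ψ
    rw [this]
    exact Equiv.bijective _
  have : (fun g : Y ⟶ specOver B (Ring B B' A) => g ≫ toR i e) =
      (fun g => j.hom ≫ g) ∘ (fun g => g ≫ toR i e) ∘ fun g => j.inv ≫ g :=
    funext fun g => by simp
  rw [this]
  exact ((Iso.homFromEquiv j).symm.bijective.comp hb).comp (Iso.homFromEquiv j).bijective

/-- `R` is the spectrum of the Weil restriction. -/
def isoR : specOver B (Ring B B' A) ≅ R :=
  have := isIso_toR i e he
  asIso (toR i e)

theorem counit_eq : (bcF B B').map (toR i e) ≫ e R (𝟙 R) =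
    (bcPt B B' (Ring B B' A)).hom ≫ specMap (univ B B' A) ≫ i.inv := by
  rw [← he, Category.comp_id]
  have h := ptEquiv_toR i e
  simp only [ptEquiv, Equiv.trans_apply, Iso.homCongr_apply] at h
  rw [← algHomEquiv_symm_apply, ← h, Equiv.symm_apply_apply]
  simp

include i

/-- Properties of the counit are those of the universal map of rings. -/
theorem counit_iff (P : MorphismProperty Scheme.{u}) [P.RespectsIso] :
    P (e R (𝟙 R)).left ↔ P (Spec.map (CommRingCat.ofHom (R := A) (S := B' ⊗[B] Ring B B' A) (univ B B' A).toRingHom)) := by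
  have := isIso_toR i e he
  have : IsIso ((bcF B B').map (toR i e)).left :=
    inferInstanceAs (IsIso ((Over.forget _).map ((bcF B B').map (toR i e))))
  have h := congrArg CommaMorphism.left (counit_eq i e he)
  simp only [Over.comp_left, specMap_left] at h
  rw [← P.cancel_left_of_respectsIso ((bcF B B').map (toR i e)).left, h,
    P.cancel_left_of_respectsIso (bcPt B B' (Ring B B' A)).hom.left,
    P.cancel_right_of_respectsIso _ i.inv.left]

theorem hom_iff (P : MorphismProperty Scheme.{u}) [P.RespectsIso] :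
    P R.hom ↔ P (Spec.map (CommRingCat.ofHom (algebraMap B (Ring B B' A)))) := by
  have := isIso_toR i e he
  have : IsIso (toR i e).left := inferInstanceAs (IsIso ((Over.forget _).map (toR i e)))
  rw [← P.cancel_left_of_respectsIso (toR i e).left, Over.w]
  rfl

theorem isAffine_left : IsAffine R.left := by
  have := isIso_toR i e he
  have : IsIso (toR i e).left := inferInstanceAs (IsIso ((Over.forget _).map (toR i e)))
  exact IsAffine.of_isIso (inv (toR i e).left)

end

end Groth.Agent.WeilRes21

end
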