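import Groth.Agent.Lib.WeilRes21.Main
import Mathlib.RingTheory.Spectrum.Prime.Topology
import Mathlib.Topology.Connected.Clopen
import Mathlib.RingTheory.Jacobson.Ring
import Mathlib.Algebra.Polynomial.AlgebraMap

/-!
Geometric connectedness of the Weil restriction of a smooth geometrically connected affine scheme:
any two points are joined by lines and by copies of the scheme itself.
-/

universe u

open TensorProduct

set_option backward.isDefEq.respectTransparency false

noncomputable section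

namespace Groth.Agent.WeilRes21

theorem idem_eq_zero_or_one {E : Type u} [CommRing E] [PreconnectedSpace (PrimeSpectrum E)] {e : E}
    (he : IsIdempotentElem e) : e = 0 ∨ e = 1 := by
  rcases _root_.isClopen_iff.mp (PrimeSpectrum.isClopen_iff_zeroLocus.mpr ⟨e, he, rfl⟩ :
    IsClopen (PrimeSpectrum.zeroLocus {e})) with h | h
  · refine Or.inr ((IsIdempotentElem.iff_eq_one_of_isUnit ?_).mp he)
    by_contra hu
    obtain ⟨m, hm, hem⟩ := exists_max_ideal_of_mem_nonunits hu
    exact Set.eq_empty_iff_forall_notMem.mp h ⟨m, hm.isPrime⟩ (Set.singleton_subset_iff.mpr hem)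
  · refine Or.inl (he.eq_zero_of_isNilpotent (mem_nilradical.mp (nilradical_eq_sInf E ▸ ?_)))
    rw [Submodule.mem_sInf]
    intro p hp
    exact Set.singleton_subset_iff.mp (h.symm ▸ Set.mem_univ (⟨p, hp⟩ : PrimeSpectrum E) :
      (⟨p, hp⟩ : PrimeSpectrum E) ∈ PrimeSpectrum.zeroLocus {e})

theorem connectedSpace_of_idem {E : Type u} [CommRing E] [Nontrivial E]
    (h : ∀ e : E, IsIdempotentElem e → e = 0 ∨ e = 1) : ConnectedSpace (PrimeSpectrum E) := by
  have : PreconnectedSpace (PrimeSpectrum E) := by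
    rw [preconnectedSpace_iff_clopen]
    intro s hs
    obtain ⟨e, he, rfl⟩ := PrimeSpectrum.exists_idempotent_basicOpen_eq_of_isClopen hs
    rcases h e he with rfl | rfl
    · exact Or.inl (by simp)
    · exact Or.inr (by simp)
  exact ⟨inferInstance⟩

/-- the segment between two congruent maps -/
theorem exists_segment {A S : Type u} [CommRing A] [CommRing S] (J : Ideal S) (f g : A →+* S) (t : S)
    (h : ∀ a b, (g a - f a) * (g b - f b) ∈ J) :
    ∃ ψ : A →+* S ⧸ J, ∀ a, ψ a = Ideal.Quotient.mk J (f a + t * (g a - f a)) := by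
  refine ⟨{ toFun := fun a => Ideal.Quotient.mk J (f a + t * (g a - f a))
            map_one' := by simp
            map_mul' := fun a b => ?_
            map_zero' := by simp
            map_add' := fun a b => ?_ }, fun _ => rfl⟩
  · rw [← map_mul, Ideal.Quotient.eq]
    convert Ideal.mul_mem_left J (t - t * t) (h a b) using 1
    simp only [map_mul]
    ring
  · rw [← map_add]
    congr 1
    simp only [map_add]
    ring

theorem eq_zero_of_forall_maximal {R : Type u} [CommRing R] [hR : IsJacobsonRing R] {f : R} (hf : IsIdempotentElem f)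
    (h : ∀ m : Ideal R, m.IsMaximal → f ∈ m) : f = 0 := by
  refine hf.eq_zero_of_isNilpotent (mem_nilradical.mp ?_)
  rw [nilradical, ← IsJacobsonRing.out hR (Ideal.radical_isRadical (0 : Ideal R)), Ideal.jacobson, Submodule.mem_sInf]
  intro m hm
  exact h m hm.2

theorem idem_one_sub {R : Type u} [CommRing R] {f : R} (hf : IsIdempotentElem f) : IsIdempotentElem (1 - f) :=
  hf.one_sub

theorem exists_point_of_maximal {K R : Type u} [Field K] [IsAlgClosed K] [CommRing R] [Algebra K R]
    [Algebra.FiniteType K R] (m : Ideal R) [m.IsMaximal] : ∃ p : R →ₐ[K] K, ∀ x, p x = 0 → x ∈ m := by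
  let : Field (R ⧸ m) := Ideal.Quotient.field m
  have : Algebra.FiniteType K (R ⧸ m) :=
    Algebra.FiniteType.of_surjective (Ideal.Quotient.mkₐ K m) Ideal.Quotient.mk_surjective
  have : Module.Finite K (R ⧸ m) := finite_of_finite_type_of_isJacobsonRing _ _
  let η : K ≃ₐ[K] R ⧸ m :=
    AlgEquiv.ofBijective (Algebra.ofId K _) IsAlgClosed.algebraMap_bijective_of_isIntegral
  exact ⟨η.symm.toAlgHom.comp (Ideal.Quotient.mkₐ K m), fun x hx =>
    Ideal.Quotient.eq_zero_iff_mem.mp ((map_eq_zero_iff _ η.symm.injective).mp hx)⟩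

variable {k k' : Type u} [Field k] [Field k'] [Algebra k k'] [Module.Finite k k']
  {A : Type u} [CommRing A] [Algebra k' A] {K : Type u} [Field K] [Algebra k K]
  (e : K ⊗[k] Ring k k' A)

section family

variable {C C' : Type u} [CommRing C] [Algebra K C] [Algebra k C] [IsScalarTower k K C]
  [CommRing C'] [Algebra K C'] [Algebra k C'] [IsScalarTower k K C']

/-- the value of a function on the restriction at a family of points -/
def ev (ψ : Ring k k' A →ₐ[k] C) : C :=
  Algebra.TensorProduct.lift (Algebra.ofId K C) ψ (fun _ _ => Commute.all _ _) e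

theorem ev_comp (ψ : Ring k k' A →ₐ[k] C) (χ : C →ₐ[K] C') :
    ev e ((χ.restrictScalars k).comp ψ) = χ (ev e ψ) := by
  change _ = (χ.comp (Algebra.TensorProduct.lift (Algebra.ofId K C) ψ fun _ _ => Commute.all _ _)) e
  refine congrArg (fun f : K ⊗[k] Ring k k' A →ₐ[K] C' => f e) ?_
  exact Algebra.TensorProduct.ext (AlgHom.ext fun c => by simp) (AlgHom.ext fun w => by simp)

/-- the value at a point -/
def val (φ : A →ₐ[k'] k' ⊗[k] C) : C := ev e ((homEquiv k k' A).symm φ)

theorem val_comp (Φ : A →ₐ[k'] k' ⊗[k] C) (χ : C →ₐ[K] C') :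
    val e ((bcMap k k' (χ.restrictScalars k)).comp Φ) = χ (val e Φ) := by
  rw [val, val, ← ev_comp]
  congr 1
  apply (homEquiv k k' A).injective
  rw [homEquiv_comp, Equiv.apply_symm_apply, Equiv.apply_symm_apply]

variable {e}

theorem val_eq_of_family [PreconnectedSpace (PrimeSpectrum C)] (he : IsIdempotentElem e)
    (Φ : A →ₐ[k'] k' ⊗[k] C) (χ₀ χ₁ : C →ₐ[K] K) :
    val e ((bcMap k k' (χ₀.restrictScalars k)).comp Φ) = val e ((bcMap k k' (χ₁.restrictScalars k)).comp Φ) := by
  rw [val_comp, val_comp]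
  have hi : IsIdempotentElem (val e Φ) := he.map _
  rcases idem_eq_zero_or_one hi with h | h <;> simp [h]

end family

section residue

variable [IsAlgClosed K]

attribute [local instance] rightAlg in
theorem exists_res (n : MaximalSpectrum (k' ⊗[k] K)) : ∃ r : k' ⊗[k] K →+* K,
    (∀ c, r (1 ⊗ₜ c) = c) ∧ RingHom.ker r = n.asIdeal := by
  have := finite_rightAlg (B := k) (B' := k') (K := K)
  let : Field ((k' ⊗[k] K) ⧸ n.asIdeal) := Ideal.Quotient.field n.asIdeal
  let ι := RingEquiv.ofBijective (algebraMap K ((k' ⊗[k] K) ⧸ n.asIdeal))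
    IsAlgClosed.algebraMap_bijective_of_isIntegral
  refine ⟨ι.symm.toRingHom.comp (Ideal.Quotient.mk n.asIdeal), fun c => ?_, Ideal.ext fun z => ?_⟩
  · apply ι.injective
    change ι (ι.symm _) = ι c
    rw [RingEquiv.apply_symm_apply]
    rfl
  · rw [RingHom.mem_ker, RingHom.comp_apply, ← Ideal.Quotient.eq_zero_iff_mem]
    exact map_eq_zero_iff _ ι.symm.injective

/-- evaluation at a maximal ideal of `k' ⊗ K` -/
def res (n : MaximalSpectrum (k' ⊗[k] K)) : k' ⊗[k] K →+* K := (exists_res n).choose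

theorem res_right (n : MaximalSpectrum (k' ⊗[k] K)) (c : K) : res n (1 ⊗ₜ c) = c :=
  (exists_res n).choose_spec.1 c

theorem ker_res (n : MaximalSpectrum (k' ⊗[k] K)) : RingHom.ker (res n) = n.asIdeal :=
  (exists_res n).choose_spec.2

theorem mk_eq_iff_res (n : MaximalSpectrum (k' ⊗[k] K)) (z z' : k' ⊗[k] K) :
    Ideal.Quotient.mk n.asIdeal z = Ideal.Quotient.mk n.asIdeal z' ↔ res n z = res n z' := by
  rw [Ideal.Quotient.eq, ← ker_res, RingHom.sub_mem_ker_iff]

attribute [local instance] rightAlg in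
theorem exists_nilpotent : IsNilpotent (nilradical (k' ⊗[k] K)) ∧ Finite (MaximalSpectrum (k' ⊗[k] K)) ∧
    ∀ z : k' ⊗[k] K, (∀ n, res n z = 0) → z ∈ nilradical (k' ⊗[k] K) := by
  have := finite_rightAlg (B := k) (B' := k') (K := K)
  have : IsArtinianRing (k' ⊗[k] K) := IsArtinianRing.of_finite K _
  refine ⟨IsArtinianRing.isNilpotent_nilradical, inferInstance, fun z hz => ?_⟩
  rw [nilradical_eq_sInf, Submodule.mem_sInf]
  intro p hp
  let n : MaximalSpectrum (k' ⊗[k] K) := ⟨p, (IsArtinianRing.isPrime_iff_isMaximal p).mp hp⟩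
  exact (ker_res n).le (hz n)

attribute [local instance] rightAlg in
theorem exists_lift_res [Algebra.FormallySmooth k' A] (y : MaximalSpectrum (k' ⊗[k] K) → A →+* K)
    (hy : ∀ n β, y n (algebraMap k' A β) = res n (β ⊗ₜ 1)) :
    ∃ φ : A →ₐ[k'] k' ⊗[k] K, ∀ n a, res n (φ a) = y n a := by
  have := finite_rightAlg (B := k) (B' := k') (K := K)
  obtain ⟨φ, hφ₁, hφ₂⟩ := exists_lift_of_points K (algebraMap k' A)
    (RingHom.formallySmooth_algebraMap.mpr inferInstance) (algebraMap k' (k' ⊗[k] K))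
    (fun n => (Ideal.Quotient.mk n.asIdeal).comp
      ((Algebra.TensorProduct.includeRight (R := k) (A := k') (B := K)).toRingHom.comp (y n)))
    (fun n => RingHom.ext fun β => (mk_eq_iff_res n _ _).mpr (by
      change res n (1 ⊗ₜ y n (algebraMap k' A β)) = res n (β ⊗ₜ 1)
      rw [res_right, hy]))
  refine ⟨{ φ with commutes' := fun β => congr($hφ₂ β) }, fun n a => ?_⟩
  exact ((mk_eq_iff_res n _ _).mp congr($(hφ₁ n) a)).trans (res_right n _)

end residue

section connect

variable [IsAlgClosed K] [Algebra.FormallySmooth k' A] {e}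

/-- the inclusion of the constants in the segment -/
abbrev iotaLine : k' ⊗[k] K →ₐ[k'] k' ⊗[k] Polynomial K :=
  bcMap k k' ((Algebra.ofId K (Polynomial K)).restrictScalars k)

/-- A function of a point which is constant on lines congruent to constants is constant on congruence classes. -/
theorem eq_of_congr {β : Type*} (F : (A →ₐ[k'] k' ⊗[k] K) → β)
    (hF : ∀ (Φ : A →ₐ[k'] k' ⊗[k] Polynomial K) (φ : A →ₐ[k'] k' ⊗[k] K),
      (∀ a, Φ a - iotaLine (φ a) ∈ (nilradical (k' ⊗[k] K)).map (iotaLine (k := k) (k' := k') (K := K)).toRingHom) →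
      F ((bcMap k k' ((Polynomial.aeval (R := K) (0 : K)).restrictScalars k)).comp Φ) =
        F ((bcMap k k' ((Polynomial.aeval (R := K) (1 : K)).restrictScalars k)).comp Φ))
    (d : ℕ) : ∀ (j : ℕ) (φ φ' : A →ₐ[k'] k' ⊗[k] K),
    nilradical (k' ⊗[k] K) ^ (j + 1 + d) = ⊥ →
    (∀ a, φ' a - φ a ∈ nilradical (k' ⊗[k] K) ^ (j + 1)) → F φ = F φ' := by
  induction d with
  | zero =>
    intro j φ φ' hn h
    congr 1
    refine AlgHom.ext fun a => (sub_eq_zero.mp ?_).symm
    have := h a
    rwa [show j + 1 = j + 1 + 0 from rfl, hn, Ideal.mem_bot] at this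
  | succ d ih =>
    intro j φ φ' hn h
    let N := nilradical (k' ⊗[k] K)
    let ι : k' ⊗[k] K →ₐ[k'] k' ⊗[k] Polynomial K := bcMap k k' ((Algebra.ofId K (Polynomial K)).restrictScalars k)
    let J : Ideal (k' ⊗[k] Polynomial K) := (N ^ (j + 2)).map ι.toRingHom
    have hJ : IsNilpotent J := by
      obtain ⟨n, hn'⟩ := (exists_nilpotent (k := k) (k' := k') (K := K)).1
      refine ⟨n, ?_⟩
      have : (N ^ (j + 2)) ^ n = ⊥ := by rw [← pow_mul, mul_comm, pow_mul, hn', Ideal.zero_eq_bot, ← Ideal.zero_eq_bot, zero_pow (by omega)]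
      rw [← Ideal.map_pow, this, Ideal.map_bot, Ideal.zero_eq_bot]
    let t : k' ⊗[k] Polynomial K := 1 ⊗ₜ Polynomial.X
    have hmul : ∀ a b, (ι (φ' a) - ι (φ a)) * (ι (φ' b) - ι (φ b)) ∈ J := fun a b => by
      rw [← map_sub, ← map_sub, ← map_mul]
      refine Ideal.mem_map_of_mem _ (Ideal.pow_le_pow_right (show j + 2 ≤ (j + 1) + (j + 1) by omega) ?_)
      rw [pow_add]
      exact Ideal.mul_mem_mul (h a) (h b)
    obtain ⟨ψ, hψ⟩ := exists_segment J ((ι.comp φ).toRingHom) ((ι.comp φ').toRingHom) t hmul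
    have hJ' : IsNilpotent (RingHom.ker (Ideal.Quotient.mk J)) := by rwa [Ideal.mk_ker]
    have hc : ψ.comp (algebraMap k' A) = (Ideal.Quotient.mk J).comp (algebraMap k' (k' ⊗[k] Polynomial K)) :=
      RingHom.ext fun β => by
        rw [RingHom.comp_apply, RingHom.comp_apply, hψ]
        refine congrArg (Ideal.Quotient.mk J) ?_
        change (ι.comp φ) (algebraMap k' A β) + t * ((ι.comp φ') (algebraMap k' A β) - (ι.comp φ) (algebraMap k' A β)) = _
        rw [AlgHom.commutes, AlgHom.commutes, sub_self, mul_zero, add_zero]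
    obtain ⟨Φ, hΦ₁, hΦ₂⟩ := exists_lift_over (A₀ := k') (D := k' ⊗[k] Polynomial K)
      (E := (k' ⊗[k] Polynomial K) ⧸ J) (algebraMap k' A) (RingHom.formallySmooth_algebraMap.mpr inferInstance)
      (Ideal.Quotient.mk J) hJ' (algebraMap k' (k' ⊗[k] Polynomial K)) ψ
      (fun a => Ideal.Quotient.mk_surjective _) hc
    let Φ' : A →ₐ[k'] k' ⊗[k] Polynomial K := { Φ with commutes' := fun β => congr($hΦ₂ β) }
    let χ : K → (Polynomial K →ₐ[K] K) := fun c => Polynomial.aeval c
    have hι : ∀ c z, bcMap k k' ((χ c).restrictScalars k) (ι z) = z := fun c z => by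
      induction z using TensorProduct.induction_on with
      | zero => simp
      | tmul β x => simp [ι, χ]
      | add x y hx hy => simp only [map_add, hx, hy]
    have hev : ∀ c a, bcMap k k' ((χ c).restrictScalars k) (Φ' a) -
        (φ a + (1 : k') ⊗ₜ c * (φ' a - φ a)) ∈ N ^ (j + 2) := fun c a => by
      have h1 : Φ a - (ι (φ a) + t * ι (φ' a - φ a)) ∈ J := by
        rw [map_sub]
        exact Ideal.Quotient.eq.mp ((congr($hΦ₁ a)).trans (hψ a))
      have h2 : J ≤ (N ^ (j + 2)).comap (bcMap k k' ((χ c).restrictScalars k)).toRingHom :=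
        Ideal.map_le_iff_le_comap.mpr fun z hz => by
          change bcMap k k' ((χ c).restrictScalars k) (ι z) ∈ N ^ (j + 2)
          rwa [hι]
      have h3 : bcMap k k' ((χ c).restrictScalars k) (Φ a - (ι (φ a) + t * ι (φ' a - φ a))) ∈ N ^ (j + 2) := h2 h1
      rw [map_sub, map_add, map_mul, hι, hι] at h3
      have e2 : bcMap k k' ((χ c).restrictScalars k) t = (1 : k') ⊗ₜ c := by simp [t, χ]
      rw [e2] at h3
      exact h3
    have hJN : J ≤ (nilradical (k' ⊗[k] K)).map ι.toRingHom :=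
      Ideal.map_mono (Ideal.pow_le_self (by omega))
    have hlink := hF Φ' φ fun a => by
      have h1 : Φ a - (ι (φ a) + t * ι (φ' a - φ a)) ∈ J := by
        rw [map_sub]
        exact Ideal.Quotient.eq.mp ((congr($hΦ₁ a)).trans (hψ a))
      have h2 := add_mem (hJN h1) (Ideal.mul_mem_left _ t
        (Ideal.mem_map_of_mem ι.toRingHom (Ideal.pow_le_self (I := N) (show j + 1 ≠ 0 by omega) (h a))))
      convert h2 using 1
      change Φ a - ι (φ a) = Φ a - (ι (φ a) + t * ι (φ' a - φ a)) + t * ι (φ' a - φ a)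
      abel
    have hn' : N ^ (j + 1 + 1 + d) = ⊥ := by rw [show j + 1 + 1 + d = j + 1 + (d + 1) by omega]; exact hn
    have h0 := ih (j + 1) φ ((bcMap k k' ((χ 0).restrictScalars k)).comp Φ') hn' fun a => by
      have := hev 0 a
      rwa [tmul_zero, zero_mul, add_zero] at this
    have h1 := ih (j + 1) φ' ((bcMap k k' ((χ 1).restrictScalars k)).comp Φ') hn' fun a => by
      have := hev 1 a
      rwa [← Algebra.TensorProduct.one_def, one_mul, add_sub_cancel] at this
    exact h0.trans (hlink.trans h1.symm)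

/-- two points congruent modulo a positive power of the nilradical have the same value -/
theorem val_eq_of_congr (he : IsIdempotentElem e) (d j : ℕ) (φ φ' : A →ₐ[k'] k' ⊗[k] K)
    (hn : nilradical (k' ⊗[k] K) ^ (j + 1 + d) = ⊥)
    (h : ∀ a, φ' a - φ a ∈ nilradical (k' ⊗[k] K) ^ (j + 1)) : val e φ = val e φ' :=
  eq_of_congr (fun ψ : A →ₐ[k'] k' ⊗[k] K => val (C := K) e ψ)
    (fun Φ _ _ => val_eq_of_family (C := Polynomial K) he Φ (Polynomial.aeval (R := K) (0 : K)) (Polynomial.aeval (R := K) (1 : K))) d j φ φ' hn h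

theorem val_eq_of_res (he : IsIdempotentElem e) {φ φ' : A →ₐ[k'] k' ⊗[k] K}
    (h : ∀ n a, res n (φ a) = res n (φ' a)) : val e φ = val e φ' := by
  obtain ⟨⟨N, hN⟩, -, hmem⟩ := exists_nilpotent (k := k) (k' := k') (K := K)
  refine val_eq_of_congr he N 0 φ φ' ?_ fun a => ?_
  · rw [pow_add, hN, Ideal.zero_eq_bot, Ideal.mul_bot]
  · rw [zero_add, pow_one]
    exact hmem _ fun n => by rw [map_sub, h, sub_self]

/-- moving one coordinate along a connected family -/
theorem val_eq_of_coord (he : IsIdempotentElem e) {C : Type u} [CommRing C] [Algebra K C] [Algebra k C]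
    [IsScalarTower k K C] [PreconnectedSpace (PrimeSpectrum C)] (n₀ : MaximalSpectrum (k' ⊗[k] K))
    (v : A →+* C) (hv : ∀ β, v (algebraMap k' A β) = algebraMap K C (res n₀ (β ⊗ₜ 1)))
    (χ₀ χ₁ : C →ₐ[K] K) {φ φ' : A →ₐ[k'] k' ⊗[k] K} (h₀ : ∀ a, res n₀ (φ a) = χ₀ (v a))
    (h₁ : ∀ a, res n₀ (φ' a) = χ₁ (v a)) (hoff : ∀ n, n ≠ n₀ → ∀ a, res n (φ a) = res n (φ' a)) :
    val e φ = val e φ' := by
  classical
  obtain ⟨⟨N, hN⟩, hfin, hmem⟩ := exists_nilpotent (k := k) (k' := k') (K := K)
  have := Fintype.ofFinite (MaximalSpectrum (k' ⊗[k] K))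
  let π : k' ⊗[k] C →+* (MaximalSpectrum (k' ⊗[k] K) → C) := RingHom.pi fun n =>
    (Algebra.TensorProduct.lift (R := k) (S := k)
      (A := k') (B := C) (C := C)
      { ((algebraMap K C).comp (res n)).comp (Algebra.TensorProduct.includeLeftRingHom (R := k) (A := k') (B := K)) with
        commutes' := fun x => by
          change algebraMap K C (res n (algebraMap k k' x ⊗ₜ 1)) = algebraMap k C x
          rw [Algebra.algebraMap_eq_smul_one (A := k'), smul_tmul, ← Algebra.algebraMap_eq_smul_one, res_right,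
            ← IsScalarTower.algebraMap_apply] }
      (AlgHom.id k C) fun _ _ => Commute.all _ _).toRingHom
  let ι : k' ⊗[k] K →ₐ[k'] k' ⊗[k] C := bcMap k k' ((Algebra.ofId K C).restrictScalars k)
  have hπι : ∀ z n, π (ι z) n = algebraMap K C (res n z) := fun z n => by
    induction z using TensorProduct.induction_on with
    | zero => simp
    | tmul β x =>
      simp only [π, ι, RingHom.pi_apply, bcMap_tmul]
      change algebraMap K C (res n (β ⊗ₜ 1)) * algebraMap K C x = algebraMap K C (res n (β ⊗ₜ x))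
      rw [← map_mul, show (β ⊗ₜ x : k' ⊗[k] K) = β ⊗ₜ 1 * 1 ⊗ₜ x by simp, map_mul (res n), res_right]
    | add x y hx hy => simp only [map_add, Pi.add_apply, hx, hy]
  have hπr : ∀ c n, π (1 ⊗ₜ c) n = c := fun c n => by
    change algebraMap K C (res n (1 ⊗ₜ 1)) * c = c
    rw [res_right, map_one, one_mul]
  have hd : ∀ n, ∃ z : k' ⊗[k] K, ∀ m, res m z = if m = n then 1 else 0 := fun n => by
    have hco : Pairwise fun n n' : MaximalSpectrum (k' ⊗[k] K) => IsCoprime n.asIdeal n'.asIdeal :=
      fun n n' hne => Ideal.isCoprime_iff_sup_eq.mpr <|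
        n.isMaximal.coprime_of_ne n'.isMaximal fun h => hne (MaximalSpectrum.ext h)
    obtain ⟨z, hz⟩ := Ideal.quotientInfToPiQuotient_surj hco
      (fun m => Ideal.Quotient.mk m.asIdeal (if m = n then 1 else 0))
    obtain ⟨z, rfl⟩ := Ideal.Quotient.mk_surjective z
    refine ⟨z, fun m => ?_⟩
    have h' := (mk_eq_iff_res m _ _).mp (congrFun hz m)
    rw [h']
    split_ifs <;> simp
  choose dd hdd using hd
  have hπs : Function.Surjective π := fun y => by
    refine ⟨∑ n, ι (dd n) * (1 ⊗ₜ y n), funext fun m => ?_⟩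
    simp [map_sum, hπι, hπr, hdd]
  have hker : RingHom.ker π ≤ (nilradical (k' ⊗[k] K)).map ι.toRingHom := fun z hz => by
    have e0 : z = ∑ i, ι (elt k k' i ⊗ₜ 1) * (1 ⊗ₜ coord k k' i z) := by
      conv_lhs => rw [← sum_coord k k' z]
      simp [ι]
    have e1 : ∀ i, ι (elt k k' i ⊗ₜ 1) -
        ∑ n, ι (dd n) * (1 ⊗ₜ algebraMap K C (res n (elt k k' i ⊗ₜ 1))) ∈
          (nilradical (k' ⊗[k] K)).map ι.toRingHom := fun i => by
      have hd' : elt k k' i ⊗ₜ (1 : K) - ∑ n, dd n * (1 ⊗ₜ res n (elt k k' i ⊗ₜ 1)) ∈ nilradical (k' ⊗[k] K) :=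
        hmem _ fun m => by simp [map_sum, hdd, res_right]
      have := Ideal.mem_map_of_mem ι.toRingHom hd'
      simpa [ι, map_sum] using this
    have e2 : ∑ i, (∑ n, ι (dd n) * (1 ⊗ₜ algebraMap K C (res n (elt k k' i ⊗ₜ 1)))) * (1 ⊗ₜ coord k k' i z) =
        ∑ n, ι (dd n) * (1 ⊗ₜ π z n) := by
      have hz' : ∀ n, π z n = ∑ i, algebraMap K C (res n (elt k k' i ⊗ₜ 1)) * coord k k' i z := fun n => by
        conv_lhs => rw [e0]
        simp only [map_sum, map_mul, Finset.sum_apply, Pi.mul_apply, hπι, hπr]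
      simp only [Finset.sum_mul, hz', tmul_sum, Finset.mul_sum]
      rw [Finset.sum_comm]
      simp [mul_assoc]
    have hz0 : π z = 0 := hz
    simp only [hz0, Pi.zero_apply, tmul_zero, mul_zero, Finset.sum_const_zero] at e2
    rw [e0, ← sub_zero (∑ i, _ * _), ← e2, ← Finset.sum_sub_distrib]
    refine Ideal.sum_mem _ fun i _ => ?_
    rw [← sub_mul]
    exact Ideal.mul_mem_right _ _ (e1 i)
  have hnil : IsNilpotent (RingHom.ker π) := ⟨N, le_bot_iff.mp (le_trans (Ideal.pow_right_mono hker N)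
    (by rw [← Ideal.map_pow, hN, Ideal.zero_eq_bot, Ideal.map_bot]))⟩
  let φ₀ : A →+* (MaximalSpectrum (k' ⊗[k] K) → C) :=
    RingHom.pi fun n => if n = n₀ then v else (algebraMap K C).comp ((res n).comp φ.toRingHom)
  obtain ⟨Φ, hΦ₁, hΦ₂⟩ := exists_lift_over (algebraMap k' A) (RingHom.formallySmooth_algebraMap.mpr inferInstance)
    π hnil (algebraMap k' (k' ⊗[k] C)) φ₀ (fun a => hπs _)
    (RingHom.ext fun β => funext fun n => by
      have e3 : π (algebraMap k' (k' ⊗[k] C) β) n = algebraMap K C (res n (β ⊗ₜ 1)) := by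
        rw [← hπι]; simp [ι]
      rw [RingHom.comp_apply, RingHom.comp_apply, e3]
      simp only [φ₀, RingHom.pi_apply]
      split_ifs with hn
      · rw [hv, hn]
      · exact congrArg (fun z => algebraMap K C (res n z)) (φ.commutes β))
  let Φ' : A →ₐ[k'] k' ⊗[k] C := { Φ with commutes' := fun β => congr($hΦ₂ β) }
  have hnat : ∀ (χ : C →ₐ[K] K) z n, res n (bcMap k k' (χ.restrictScalars k) z) = χ (π z n) := fun χ z n => by
    induction z using TensorProduct.induction_on with
    | zero => simp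
    | tmul β x =>
      rw [bcMap_tmul, AlgHom.coe_restrictScalars',
        show (β ⊗ₜ χ x : k' ⊗[k] K) = β ⊗ₜ 1 * 1 ⊗ₜ χ x by simp, map_mul, res_right]
      change _ = χ (algebraMap K C (res n (β ⊗ₜ 1)) * x)
      rw [map_mul, AlgHom.commutes]
      rfl
    | add x y hx hy => simp only [map_add, Pi.add_apply, hx, hy]
  have hΦn : ∀ (χ : C →ₐ[K] K) n a, res n (bcMap k k' (χ.restrictScalars k) (Φ' a)) =
      χ ((if n = n₀ then v else (algebraMap K C).comp ((res n).comp φ.toRingHom)) a) := fun χ n a => by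
    rw [hnat]
    exact congrArg χ (congrFun congr($hΦ₁ a) n)
  refine (val_eq_of_res he fun n a => ?_).trans ((val_eq_of_family he Φ' χ₀ χ₁).trans (val_eq_of_res he fun n a => ?_))
  · rw [AlgHom.comp_apply, hΦn]
    split_ifs with hn
    · rw [hn, h₀]
    · exact (AlgHom.commutes χ₀ _).symm
  · rw [AlgHom.comp_apply, hΦn]
    split_ifs with hn
    · rw [hn, h₁]
    · exact ((AlgHom.commutes χ₁ _).trans (hoff n hn a))

theorem val_const (he : IsIdempotentElem e)
    (hA : ∀ [Algebra k' K] [IsScalarTower k k' K], ConnectedSpace (PrimeSpectrum (K ⊗[k'] A)))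
    (φ φ' : A →ₐ[k'] k' ⊗[k] K) : val e φ = val e φ' := by
  classical
  obtain ⟨-, hfin, -⟩ := exists_nilpotent (k := k) (k' := k') (K := K)
  have := Fintype.ofFinite (MaximalSpectrum (k' ⊗[k] K))
  suffices ∀ (s : Finset (MaximalSpectrum (k' ⊗[k] K))) (φ φ' : A →ₐ[k'] k' ⊗[k] K),
      (∀ n ∉ s, ∀ a, res n (φ a) = res n (φ' a)) → val e φ = val e φ' from
    this Finset.univ φ φ' fun n hn => absurd (Finset.mem_univ n) hn
  intro s
  induction s using Finset.induction_on with
  | empty => exact fun φ φ' h => val_eq_of_res he fun n => h n (Finset.notMem_empty n)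
  | insert n₀ s _ ih =>
    intro φ φ' h
    obtain ⟨ψ, hψ⟩ := exists_lift_res (k := k) (k' := k') (A := A)
      (fun n => (res n).comp (if n = n₀ then φ.toRingHom else φ'.toRingHom))
      (fun n β => by split_ifs <;> simp)
    have h1 : val e φ = val e ψ := ih φ ψ fun n hn a => by
      rw [hψ]
      by_cases hn0 : n = n₀
      · simp [hn0]
      · simp only [if_neg hn0]
        exact h n (by simp [hn0, hn]) a
    refine h1.trans ?_
    let r : k' →+* K := (res n₀).comp (Algebra.TensorProduct.includeLeftRingHom (R := k) (A := k') (B := K))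
    let : Algebra k' K := r.toAlgebra
    have : IsScalarTower k k' K := IsScalarTower.of_algebraMap_eq fun x => by
      change algebraMap k K x = res n₀ (algebraMap k k' x ⊗ₜ 1)
      rw [Algebra.algebraMap_eq_smul_one (A := k'), smul_tmul, ← Algebra.algebraMap_eq_smul_one, res_right]
    have := hA
    let pt : (A →ₐ[k'] k' ⊗[k] K) → (A →ₐ[k'] K) := fun χ =>
      { (res n₀).comp χ.toRingHom with commutes' := fun β => congrArg (res n₀) (χ.commutes β) }
    refine val_eq_of_coord he (C := K ⊗[k'] A) n₀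
      (Algebra.TensorProduct.includeRight (R := k') (A := K) (B := A)).toRingHom
      (fun β => by
        change (1 : K) ⊗ₜ algebraMap k' A β = _ ⊗ₜ 1
        rw [Algebra.algebraMap_eq_smul_one, tmul_smul, smul_tmul', ← Algebra.algebraMap_eq_smul_one]
        rfl)
      (Algebra.TensorProduct.lift (AlgHom.id K K) (pt ψ) fun _ _ => Commute.all _ _)
      (Algebra.TensorProduct.lift (AlgHom.id K K) (pt φ') fun _ _ => Commute.all _ _)
      (fun a => by simp [pt]) (fun a => by simp [pt]) fun n hn a => ?_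
    rw [hψ]
    simp [if_neg hn]

theorem connectedSpace_ring [Algebra.FiniteType k' A]
    (hA : ∀ [Algebra k' K] [IsScalarTower k k' K], ConnectedSpace (PrimeSpectrum (K ⊗[k'] A))) :
    ConnectedSpace (PrimeSpectrum (K ⊗[k] Ring k k' A)) := by
  classical
  have hpt : ∀ n : MaximalSpectrum (k' ⊗[k] K), ∃ y : A →+* K, ∀ β, y (algebraMap k' A β) = res n (β ⊗ₜ 1) := by
    intro n
    let r : k' →+* K := (res n).comp (Algebra.TensorProduct.includeLeftRingHom (R := k) (A := k') (B := K))
    let : Algebra k' K := r.toAlgebra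
    have : IsScalarTower k k' K := IsScalarTower.of_algebraMap_eq fun x => by
      change algebraMap k K x = res n (algebraMap k k' x ⊗ₜ 1)
      rw [Algebra.algebraMap_eq_smul_one (A := k'), smul_tmul, ← Algebra.algebraMap_eq_smul_one, res_right]
    have := hA
    obtain ⟨P⟩ := (inferInstance : Nonempty (PrimeSpectrum (K ⊗[k'] A)))
    obtain ⟨y, hy⟩ := exists_point_of_mem_range (algebraMap k' A) (RingHom.finiteType_algebraMap.mpr inferInstance) r
      ⟨PrimeSpectrum.comap (Algebra.TensorProduct.includeRight (R := k') (A := K) (B := A)).toRingHom P, Subsingleton.elim _ _⟩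
    exact ⟨y, fun β => congr($hy β)⟩
  choose y hy using hpt
  obtain ⟨φ, -⟩ := exists_lift_res (k := k) (k' := k') y hy
  let χ : K ⊗[k] Ring k k' A →ₐ[K] K :=
    Algebra.TensorProduct.lift (AlgHom.id K K) ((homEquiv k k' A).symm φ) fun _ _ => Commute.all _ _
  have : Nontrivial (K ⊗[k] Ring k k' A) := χ.toRingHom.domain_nontrivial
  have := finiteType k k' A
  have : IsJacobsonRing (K ⊗[k] Ring k k' A) := isJacobsonRing_of_finiteType (A := K)
  refine connectedSpace_of_idem (E := K ⊗[k] Ring k k' A) fun f hf => ?_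
  have key : ∀ f : K ⊗[k] Ring k k' A, IsIdempotentElem f → val f φ = 0 → f = 0 := fun f hf h0 => by
    refine eq_zero_of_forall_maximal (R := K ⊗[k] Ring k k' A) hf fun m hm => ?_
    obtain ⟨p, hpm⟩ := exists_point_of_maximal (K := K) (R := K ⊗[k] Ring k k' A) m
    let ψ : Ring k k' A →ₐ[k] K := (p.restrictScalars k).comp Algebra.TensorProduct.includeRight
    have hp : p f = ev f ψ := by
      refine congrArg (fun g : K ⊗[k] Ring k k' A →ₐ[K] K => g f) ?_
      exact Algebra.TensorProduct.ext (AlgHom.ext fun c => by simp; exact p.commutes c) (AlgHom.ext fun w => by simp [ψ])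
    have hv : val f (homEquiv k k' A ψ) = 0 := (val_const hf hA _ φ).trans h0
    rw [val, Equiv.symm_apply_apply, ← hp] at hv
    exact hpm _ hv
  have hi : IsIdempotentElem (val f φ) := hf.map _
  rcases (IsIdempotentElem.iff_eq_zero_or_one (G₀ := K)).mp hi with h | h
  · exact Or.inl (key f hf h)
  · refine Or.inr (sub_eq_zero.mp (key (1 - f) (idem_one_sub (R := K ⊗[k] Ring k k' A) hf) ?_)).symm
    change Algebra.TensorProduct.lift (Algebra.ofId K K) ((homEquiv k k' A).symm φ) _ (1 - f) = 0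
    rw [map_sub, map_one, sub_eq_zero]
    exact h.symm

end connect

end Groth.Agent.WeilRes21

end
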