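import Mathlib.RingTheory.TensorProduct.Finite
import Mathlib.RingTheory.FiniteType
import Mathlib.RingTheory.Flat.Basic
import Mathlib.LinearAlgebra.TensorProduct.Finiteness
import Mathlib.RingTheory.Finiteness.Projective

/-!
Weil restriction of an algebra along a finite projective ring extension `B → B'`:
`homEquiv : (Ring B B' A →ₐ[B] C) ≃ (A →ₐ[B'] B' ⊗[B] C)`.
-/

universe u

open TensorProduct

noncomputable section

namespace Groth.Agent.WeilRes21

variable (B B' A : Type u) [CommRing B] [CommRing B'] [CommRing A] [Algebra B B'] [Algebra B' A]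
  [Module.Finite B B'] [Module.Projective B B']

def dim : ℕ := (Module.Finite.exists_comp_eq_id_of_projective B B').choose

def dec : ∃ (f : (Fin (dim B B') → B) →ₗ[B] B') (g : B' →ₗ[B] Fin (dim B B') → B), f ∘ₗ g = LinearMap.id :=
  let h := (Module.Finite.exists_comp_eq_id_of_projective B B').choose_spec
  ⟨h.choose, h.choose_spec.choose, h.choose_spec.choose_spec.2.2⟩

/-- dual basis, elements -/
def elt (i : Fin (dim B B')) : B' := (dec B B').choose (Pi.single i 1)

/-- dual basis, forms -/
def form (i : Fin (dim B B')) : B' →ₗ[B] B := LinearMap.proj i ∘ₗ (dec B B').choose_spec.choose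

theorem sum_form (x : B') : ∑ i, form B B' i x • elt B B' i = x := by
  have h := LinearMap.congr_fun (dec B B').choose_spec.choose_spec x
  rw [LinearMap.comp_apply, LinearMap.id_apply, pi_eq_sum_univ' ((dec B B').choose_spec.choose x),
    map_sum] at h
  conv_rhs => rw [← h]
  refine Finset.sum_congr rfl fun i _ => ?_
  rw [map_smul]
  rfl

section coord

variable {C C' : Type u} [CommRing C] [Algebra B C] [CommRing C'] [Algebra B C']

/-- coordinates in `B' ⊗[B] C` -/
def coord (i : Fin (dim B B')) : B' ⊗[B] C →ₗ[B] C :=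
  (TensorProduct.lid B C).toLinearMap ∘ₗ (form B B' i).rTensor C

theorem coord_tmul (i : Fin (dim B B')) (x : B') (c : C) :
    coord B B' i (x ⊗ₜ c) = form B B' i x • c := by
  simp [coord]

theorem sum_coord (z : B' ⊗[B] C) : ∑ i, elt B B' i ⊗ₜ coord B B' i z = z := by
  induction z using TensorProduct.induction_on with
  | zero => simp
  | tmul x c =>
    simp only [coord_tmul, tmul_smul, smul_tmul', ← sum_tmul, sum_form]
  | add x y hx hy => simp only [map_add, tmul_add, Finset.sum_add_distrib, hx, hy]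

theorem ext_coord {z z' : B' ⊗[B] C} (h : ∀ i, coord B B' i z = coord B B' i z') : z = z' := by
  rw [← sum_coord B B' z, ← sum_coord B B' z']
  simp only [h]

/-- base change of a map of `B`-algebras -/
def bcMap (ψ : C →ₐ[B] C') : B' ⊗[B] C →ₐ[B'] B' ⊗[B] C' :=
  Algebra.TensorProduct.map (AlgHom.id B' B') ψ

@[simp]
theorem bcMap_tmul (ψ : C →ₐ[B] C') (x : B') (c : C) : bcMap B B' ψ (x ⊗ₜ c) = x ⊗ₜ ψ c := rfl

theorem coord_bcMap (i : Fin (dim B B')) (ψ : C →ₐ[B] C') (z : B' ⊗[B] C) :
    coord B B' i (bcMap B B' ψ z) = ψ (coord B B' i z) := by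
  induction z using TensorProduct.induction_on with
  | zero => simp
  | tmul x c => simp [coord_tmul]
  | add x y hx hy => simp only [map_add, hx, hy]

theorem bcMap_comp {C'' : Type u} [CommRing C''] [Algebra B C''] (ψ : C →ₐ[B] C') (χ : C' →ₐ[B] C'') :
    (bcMap B B' χ).comp (bcMap B B' ψ) = bcMap B B' (χ.comp ψ) :=
  Algebra.TensorProduct.ext (AlgHom.ext fun _ => rfl) (AlgHom.ext fun _ => rfl)

theorem bcMap_id : bcMap B B' (AlgHom.id B C) = AlgHom.id B' (B' ⊗[B] C) :=
  Algebra.TensorProduct.ext (AlgHom.ext fun _ => rfl) (AlgHom.ext fun _ => rfl)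

theorem bcMap_surjective (ψ : C →ₐ[B] C') (h : Function.Surjective ψ) :
    Function.Surjective (bcMap B B' ψ) := fun z => by
  choose s hs using h
  refine ⟨∑ i, elt B B' i ⊗ₜ s (coord B B' i z), ?_⟩
  conv_rhs => rw [← sum_coord B B' z]
  simp [hs]

end coord

abbrev Poly : Type u := MvPolynomial (A × Fin (dim B B')) B

/-- the candidate universal map -/
def pre (a : A) : B' ⊗[B] Poly B B' A := ∑ i, elt B B' i ⊗ₜ MvPolynomial.X (a, i)

def relations : Set (Poly B B' A) :=
  {p | (∃ a a' i, p = coord B B' i (pre B B' A (a + a') - pre B B' A a - pre B B' A a')) ∨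
    (∃ a a' i, p = coord B B' i (pre B B' A (a * a') - pre B B' A a * pre B B' A a')) ∨
    (∃ β i, p = coord B B' i (pre B B' A (algebraMap B' A β) - β ⊗ₜ 1)) ∨
    (∃ a i, p = coord B B' i (pre B B' A a) - MvPolynomial.X (a, i))}

/-- The Weil restriction of `A`. -/
abbrev Ring : Type u := Poly B B' A ⧸ Ideal.span (relations B B' A)

def gen (a : A) (i : Fin (dim B B')) : Ring B B' A := Ideal.Quotient.mk _ (MvPolynomial.X (a, i))

def quot : Poly B B' A →ₐ[B] Ring B B' A := Ideal.Quotient.mkₐ B _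

theorem quot_relation {p : Poly B B' A} (hp : p ∈ relations B B' A) : quot B B' A p = 0 :=
  Ideal.Quotient.eq_zero_iff_mem.mpr (Ideal.subset_span hp)

/-- universal map as a function -/
def univFun (a : A) : B' ⊗[B] Ring B B' A := bcMap B B' (quot B B' A) (pre B B' A a)

theorem univFun_add (a a' : A) : univFun B B' A (a + a') = univFun B B' A a + univFun B B' A a' := by
  rw [univFun, univFun, univFun, ← map_add, ← sub_eq_zero, ← map_sub, sub_add_eq_sub_sub]
  exact ext_coord B B' fun i => by
    rw [coord_bcMap, map_zero (coord B B' i), quot_relation B B' A (Or.inl ⟨a, a', i, rfl⟩)]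

theorem univFun_mul (a a' : A) : univFun B B' A (a * a') = univFun B B' A a * univFun B B' A a' := by
  rw [univFun, univFun, univFun, ← map_mul, ← sub_eq_zero, ← map_sub]
  exact ext_coord B B' fun i => by
    rw [coord_bcMap, map_zero (coord B B' i), quot_relation B B' A (Or.inr (Or.inl ⟨a, a', i, rfl⟩))]

theorem univFun_algebraMap (β : B') : univFun B B' A (algebraMap B' A β) = β ⊗ₜ 1 := by
  have e : bcMap B B' (quot B B' A) (β ⊗ₜ (1 : Poly B B' A)) = β ⊗ₜ 1 := by simp
  rw [univFun, ← e, ← sub_eq_zero, ← map_sub]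
  exact ext_coord B B' fun i => by
    rw [coord_bcMap, map_zero (coord B B' i), quot_relation B B' A (Or.inr (Or.inr (Or.inl ⟨β, i, rfl⟩)))]

/-- The universal map. -/
def univ : A →ₐ[B'] B' ⊗[B] Ring B B' A where
  toFun := univFun B B' A
  map_one' := by
    rw [← map_one (algebraMap B' A), univFun_algebraMap]
    rfl
  map_mul' := univFun_mul B B' A
  map_zero' := by
    rw [← map_zero (algebraMap B' A), univFun_algebraMap, zero_tmul]
  map_add' := univFun_add B B' A
  commutes' β := univFun_algebraMap B B' A β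

theorem coord_univ (a : A) (i : Fin (dim B B')) : coord B B' i (univ B B' A a) = gen B B' A a i := by
  change coord B B' i (bcMap B B' (quot B B' A) (pre B B' A a)) = quot B B' A (MvPolynomial.X (a, i))
  rw [coord_bcMap, ← sub_eq_zero, ← map_sub]
  exact quot_relation B B' A (Or.inr (Or.inr (Or.inr ⟨a, i, rfl⟩)))

variable {B B' A}
variable {C C' : Type u} [CommRing C] [Algebra B C] [CommRing C'] [Algebra B C']

def preLift (φ : A →ₐ[B'] B' ⊗[B] C) : Poly B B' A →ₐ[B] C :=
  MvPolynomial.aeval fun x => coord B B' x.2 (φ x.1)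

theorem bcMap_preLift_pre (φ : A →ₐ[B'] B' ⊗[B] C) (a : A) : bcMap B B' (preLift φ) (pre B B' A a) = φ a := by
  conv_rhs => rw [← sum_coord B B' (φ a)]
  simp [pre, preLift]

def lift (φ : A →ₐ[B'] B' ⊗[B] C) : Ring B B' A →ₐ[B] C :=
  Ideal.Quotient.liftₐ _ (preLift φ) fun p hp => by
    suffices Ideal.span (relations B B' A) ≤ RingHom.ker (preLift φ) from this hp
    refine Ideal.span_le.mpr fun q hq => ?_
    simp only [SetLike.mem_coe, RingHom.mem_ker]
    rcases hq with ⟨a, a', i, rfl⟩ | ⟨a, a', i, rfl⟩ | ⟨β, i, rfl⟩ | ⟨a, i, rfl⟩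
    · simp [map_sub, ← coord_bcMap, bcMap_preLift_pre]
    · simp [map_sub, ← coord_bcMap, bcMap_preLift_pre]
    · simp [map_sub, ← coord_bcMap, bcMap_preLift_pre, AlgHom.commutes]
    · rw [map_sub, ← coord_bcMap, bcMap_preLift_pre]
      simp [preLift]

theorem lift_gen (φ : A →ₐ[B'] B' ⊗[B] C) (a : A) (i : Fin (dim B B')) :
    lift φ (gen B B' A a i) = coord B B' i (φ a) := by
  change preLift φ (MvPolynomial.X (a, i)) = _
  simp [preLift]

variable (B B' A) in
/-- the universal property -/
def homEquiv : (Ring B B' A →ₐ[B] C) ≃ (A →ₐ[B'] B' ⊗[B] C) where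
  toFun ψ := (bcMap B B' ψ).comp (univ B B' A)
  invFun := lift
  left_inv ψ := by
    refine Ideal.Quotient.algHom_ext _ (MvPolynomial.algHom_ext fun ⟨a, i⟩ => ?_)
    change lift _ (gen B B' A a i) = ψ (gen B B' A a i)
    rw [lift_gen, AlgHom.comp_apply, coord_bcMap, coord_univ]
  right_inv φ := AlgHom.ext fun a => ext_coord B B' fun i => by
    rw [AlgHom.comp_apply, coord_bcMap, coord_univ, lift_gen]

theorem homEquiv_apply (ψ : Ring B B' A →ₐ[B] C) :
    homEquiv B B' A ψ = (bcMap B B' ψ).comp (univ B B' A) := rfl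

theorem homEquiv_comp (ψ : Ring B B' A →ₐ[B] C) (χ : C →ₐ[B] C') :
    homEquiv B B' A (χ.comp ψ) = (bcMap B B' χ).comp (homEquiv B B' A ψ) := by
  rw [homEquiv_apply, homEquiv_apply, ← AlgHom.comp_assoc, bcMap_comp]

theorem homEquiv_id : homEquiv B B' A (AlgHom.id B (Ring B B' A)) = univ B B' A := by
  rw [homEquiv_apply, bcMap_id, AlgHom.id_comp]

variable (B B' A) in
theorem finiteType [Algebra.FiniteType B' A] : Algebra.FiniteType B (Ring B B' A) := by
  classical
  obtain ⟨s, hs⟩ := Algebra.FiniteType.out (R := B') (A := A)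
  let t : Finset (Ring B B' A) := (s ×ˢ Finset.univ).image fun x => gen B B' A x.1 x.2
  let R₀ : Subalgebra B (Ring B B' A) := Algebra.adjoin B (t : Set (Ring B B' A))
  let im : Subalgebra B' (B' ⊗[B] Ring B B' A) := (bcMap B B' R₀.val).range
  have hmem : ∀ a, univ B B' A a ∈ im := by
    have hle : Algebra.adjoin B' (s : Set A) ≤ im.comap (univ B B' A) := by
      refine Algebra.adjoin_le fun a ha => ?_
      change univ B B' A a ∈ im
      refine ⟨∑ i, elt B B' i ⊗ₜ ⟨gen B B' A a i, Algebra.subset_adjoin (Finset.mem_coe.mpr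
        (Finset.mem_image.mpr ⟨(a, i), Finset.mem_product.mpr ⟨ha, Finset.mem_univ _⟩, rfl⟩))⟩, ?_⟩
      change bcMap B B' R₀.val _ = _
      conv_rhs => rw [← sum_coord B B' (univ B B' A a)]
      simp [coord_univ]
    exact fun a => hle (hs ▸ trivial)
  refine ⟨⟨t, ?_⟩⟩
  have hgen : ∀ a i, gen B B' A a i ∈ R₀ := fun a i => by
    obtain ⟨z, hz⟩ := hmem a
    rw [← coord_univ, ← hz]
    change coord B B' i (bcMap B B' R₀.val z) ∈ R₀
    rw [coord_bcMap]
    exact SetLike.coe_mem _
  rw [eq_top_iff]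
  rintro r -
  obtain ⟨p, rfl⟩ := Ideal.Quotient.mk_surjective r
  induction p using MvPolynomial.induction_on with
  | C b => exact R₀.algebraMap_mem b
  | add p q hp hq => rw [map_add]; exact add_mem hp hq
  | mul_X p x hp => rw [map_mul]; exact mul_mem hp (hgen x.1 x.2)

end Groth.Agent.WeilRes21

end
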