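import Groth.Agent.Lib.WeilRes21.Scheme
import Mathlib.AlgebraicGeometry.OpenImmersion
import Mathlib.RingTheory.Spectrum.Prime.Topology

/-!
Points of a group scheme that are congruent to the unit modulo a nilpotent ideal, in terms of an affine
open neighbourhood of the unit.
-/

universe u

open CategoryTheory CategoryTheory.Limits MonoidalCategory CartesianMonoidalCategory MonObj AlgebraicGeometry

set_option backward.isDefEq.respectTransparency false

noncomputable section

namespace Groth.Agent.WeilRes21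

variable {k A : Type u} [CommRing k] [CommRing A] [Algebra k A] {G : Over (Spec (CommRingCat.of k))} [GrpObj G]
  {iU : specOver k A ⟶ G} [IsOpenImmersion iU.left] {ε : A →ₐ[k] k} (hε : specMap ε ≫ iU = 1)
  {R R' : Type u} [CommRing R] [Algebra k R] [CommRing R'] [Algebra k R']

omit [GrpObj G] in
theorem mono_open : Mono iU :=
  have : Mono ((Over.forget _).map iU) := inferInstanceAs (Mono iU.left)
  (Over.forget _).mono_of_mono_map this

omit [GrpObj G] in
theorem openPt_injective {φ φ' : A →ₐ[k] R} (h : specMap φ ≫ iU = specMap φ' ≫ iU) : φ = φ' := by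
  have := mono_open (iU := iU)
  exact algHomEquiv.symm.injective ((cancel_mono iU).mp h)

include hε

omit [IsOpenImmersion iU.left] in
theorem one_eq_openPt : (1 : specOver k R ⟶ G) = specMap ((Algebra.ofId k R).comp ε) ≫ iU := by
  rw [← specMap_comp, Category.assoc, hε, MonObj.comp_one]

theorem exists_openPt (q : R →ₐ[k] R') (hq : Function.Surjective q)
    (hker : RingHom.ker q.toRingHom ≤ nilradical R) (x : specOver k R ⟶ G) (hx : specMap q ≫ x = 1) :
    ∃ φ : A →ₐ[k] R, specMap φ ≫ iU = x := by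
  have hsurj : Function.Surjective (PrimeSpectrum.comap q.toRingHom) := by
    rw [← Set.range_eq_univ, range_comap_of_surjective _ _ hq,
      PrimeSpectrum.zeroLocus_eq_univ_iff]
    exact hker
  have hr : Set.range x.left ⊆ Set.range iU.left := by
    rintro _ ⟨P, rfl⟩
    obtain ⟨P', rfl⟩ := hsurj P
    have h := congrArg (fun m : specOver k R' ⟶ G => m.left P') (hx.trans (one_eq_openPt hε))
    exact ⟨(specMap ((Algebra.ofId k R').comp ε)).left P', h.symm⟩
  let g : specOver k R ⟶ specOver k A := Over.homMk (IsOpenImmersion.lift iU.left x.left hr) (by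
    rw [← Over.w iU, IsOpenImmersion.lift_fac_assoc]
    exact Over.w x)
  refine ⟨algHomEquiv g, ?_⟩
  rw [← algHomEquiv_symm_apply, Equiv.symm_apply_apply]
  ext : 1
  exact IsOpenImmersion.lift_fac _ _ hr

theorem exists_openPt_of_sq_zero (J : Ideal R) (hJ : J ^ 2 = ⊥) (x : specOver k R ⟶ G)
    (hx : specMap (Ideal.Quotient.mkₐ k J) ≫ x = 1) :
    ∃ φ : A →ₐ[k] R, specMap φ ≫ iU = x ∧ ∀ a, φ a - algebraMap k R (ε a) ∈ J := by
  obtain ⟨φ, hφ⟩ := exists_openPt hε (Ideal.Quotient.mkₐ k J) Ideal.Quotient.mk_surjective (fun r hr => by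
    have hr' : r ∈ J := Ideal.Quotient.eq_zero_iff_mem.mp hr
    refine mem_nilradical.mpr ⟨2, ?_⟩
    have := Ideal.pow_mem_pow hr' 2
    rwa [hJ, Ideal.mem_bot] at this) x hx
  refine ⟨φ, hφ, fun a => ?_⟩
  rw [← hφ, ← Category.assoc, specMap_comp, one_eq_openPt hε] at hx
  exact Ideal.Quotient.eq.mp congr($(openPt_injective hx) a)

/-- in a square-zero congruence subgroup the law is addition -/
theorem openPt_mul_of_sq_zero (J : Ideal R) (hJ : J ^ 2 = ⊥) (φ φ' : A →ₐ[k] R)
    (hφ : ∀ a, φ a - algebraMap k R (ε a) ∈ J) (hφ' : ∀ a, φ' a - algebraMap k R (ε a) ∈ J) :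
    ∃ ψ : A →ₐ[k] R, specMap ψ ≫ iU = (specMap φ ≫ iU) * (specMap φ' ≫ iU) ∧
      ∀ a, ψ a = φ a + φ' a - algebraMap k R (ε a) := by
  let T : Subalgebra k (R × R × R) :=
    { carrier := {t | t.1 - t.2.2 ∈ J ∧ t.2.1 - t.2.2 ∈ J}
      add_mem' := fun {s t} hs ht => by
        refine ⟨?_, ?_⟩
        · simpa [add_sub_add_comm] using add_mem hs.1 ht.1
        · simpa [add_sub_add_comm] using add_mem hs.2 ht.2
      mul_mem' := fun {s t} hs ht => by
        refine ⟨?_, ?_⟩
        · have := add_mem (J.mul_mem_right t.1 hs.1) (J.mul_mem_left s.2.2 ht.1)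
          convert this using 1
          simp only [Prod.fst_mul, Prod.snd_mul]; ring
        · have := add_mem (J.mul_mem_right t.2.1 hs.2) (J.mul_mem_left s.2.2 ht.2)
          convert this using 1
          simp only [Prod.fst_mul, Prod.snd_mul]; ring
      algebraMap_mem' := fun c => by simp }
  let p₁ : T →ₐ[k] R := (AlgHom.fst k R (R × R)).comp T.val
  let p₂ : T →ₐ[k] R := ((AlgHom.fst k R R).comp (AlgHom.snd k R (R × R))).comp T.val
  let p₃ : T →ₐ[k] R := ((AlgHom.snd k R R).comp (AlgHom.snd k R (R × R))).comp T.val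
  let mu : T →ₐ[k] R :=
    { toFun := fun t => t.1.1 + t.1.2.1 - t.1.2.2
      map_one' := by simp
      map_mul' := fun s t => by
        have h12 : (s.1.1 - s.1.2.2) * (t.1.2.1 - t.1.2.2) = 0 := by
          have := Ideal.mul_mem_mul s.2.1 t.2.2
          rwa [← pow_two, hJ, Ideal.mem_bot] at this
        have h21 : (s.1.2.1 - s.1.2.2) * (t.1.1 - t.1.2.2) = 0 := by
          have := Ideal.mul_mem_mul s.2.2 t.2.1
          rwa [← pow_two, hJ, Ideal.mem_bot] at this
        simp only [MulMemClass.coe_mul, Prod.fst_mul, Prod.snd_mul]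
        linear_combination -h12 - h21
      map_zero' := by simp
      map_add' := fun s t => by simp; ring
      commutes' := fun c => by simp }
  let e : A →ₐ[k] R := (Algebra.ofId k R).comp ε
  let X : A →ₐ[k] T := AlgHom.codRestrict (φ.prod (e.prod e)) T fun b => ⟨hφ b, by simp [e]⟩
  let Y : A →ₐ[k] T := AlgHom.codRestrict (e.prod (φ'.prod e)) T fun b => ⟨by simp [e], hφ' b⟩
  let r : T →ₐ[k] R ⧸ J := (Ideal.Quotient.mkₐ k J).comp p₁
  have hr : Function.Surjective r := fun z => by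
    obtain ⟨z, rfl⟩ := Ideal.Quotient.mk_surjective z
    exact ⟨⟨(z, z, z), by simp [T]⟩, rfl⟩
  have hsq : ∀ z ∈ J, z * z = 0 := fun z hz => by
    have := Ideal.mul_mem_mul hz hz
    rwa [← pow_two, hJ, Ideal.mem_bot] at this
  have hnil : RingHom.ker r.toRingHom ≤ nilradical T := fun t ht => by
    have h1 : t.1.1 ∈ J := Ideal.Quotient.eq_zero_iff_mem.mp ht
    have h3 : t.1.2.2 ∈ J := by simpa using sub_mem h1 t.2.1
    have h2 : t.1.2.1 ∈ J := by simpa using add_mem t.2.2 h3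
    refine mem_nilradical.mpr ⟨2, Subtype.ext ?_⟩
    rw [pow_two, MulMemClass.coe_mul, ZeroMemClass.coe_zero]
    exact Prod.ext (hsq _ h1) (Prod.ext (hsq _ h2) (hsq _ h3))
  have hX : specMap r ≫ specMap X ≫ iU = 1 := by
    rw [← Category.assoc, specMap_comp, one_eq_openPt hε]
    congr 2
    exact AlgHom.ext fun b => Ideal.Quotient.eq.mpr (hφ b)
  have hY : specMap r ≫ specMap Y ≫ iU = 1 := by
    rw [← Category.assoc, specMap_comp, one_eq_openPt hε]
    congr 2
  obtain ⟨Φ, hΦ⟩ := exists_openPt hε r hr hnil ((specMap X ≫ iU) * (specMap Y ≫ iU))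
    (by rw [MonObj.comp_mul, hX, hY, _root_.one_mul])
  have hp : ∀ (p : T →ₐ[k] R) (v w : A →ₐ[k] R), p.comp X = v → p.comp Y = w →
      specMap (p.comp Φ) ≫ iU = (specMap v ≫ iU) * (specMap w ≫ iU) := fun p v w hv hw => by
    rw [← specMap_comp, Category.assoc, hΦ, MonObj.comp_mul, ← Category.assoc, ← Category.assoc, specMap_comp,
      specMap_comp, hv, hw]
  have h₁ : p₁.comp Φ = φ := openPt_injective (iU := iU) (by
    rw [hp p₁ φ e rfl rfl, ← one_eq_openPt hε, _root_.mul_one])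
  have h₂ : p₂.comp Φ = φ' := openPt_injective (iU := iU) (by
    rw [hp p₂ e φ' rfl rfl, ← one_eq_openPt hε, _root_.one_mul])
  have h₃ : p₃.comp Φ = e := openPt_injective (iU := iU) (by
    rw [hp p₃ e e rfl rfl, ← one_eq_openPt hε, _root_.one_mul])
  refine ⟨mu.comp Φ, hp mu φ φ' (AlgHom.ext fun b => ?_) (AlgHom.ext fun b => ?_), fun a => ?_⟩
  · simp [mu, X, e, AlgHom.codRestrict]
  · simp [mu, Y, e, AlgHom.codRestrict]
  · change p₁ (Φ a) + p₂ (Φ a) - p₃ (Φ a) = _
    rw [← AlgHom.comp_apply p₁, ← AlgHom.comp_apply p₂, ← AlgHom.comp_apply p₃, h₁, h₂, h₃]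
    rfl

theorem openPt_pow_of_sq_zero (J : Ideal R) (hJ : J ^ 2 = ⊥) (φ : A →ₐ[k] R)
    (hφ : ∀ a, φ a - algebraMap k R (ε a) ∈ J) (n : ℕ) :
    ∃ ψ : A →ₐ[k] R, specMap ψ ≫ iU = (specMap φ ≫ iU) ^ n ∧
      ∀ a, ψ a = algebraMap k R (ε a) + n • (φ a - algebraMap k R (ε a)) := by
  induction n with
  | zero => exact ⟨(Algebra.ofId k R).comp ε, by rw [pow_zero, ← one_eq_openPt hε], fun a => by simp⟩
  | succ n ih =>
    obtain ⟨ψ, hψ, hψa⟩ := ih
    obtain ⟨χ, hχ, hχa⟩ := openPt_mul_of_sq_zero hε J hJ ψ φ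
      (fun a => by rw [hψa, add_sub_cancel_left]; exact nsmul_mem (hφ a) n) hφ
    refine ⟨χ, by rw [pow_succ, hχ, hψ], fun a => ?_⟩
    rw [hχa, hψa, succ_nsmul]
    abel

theorem pow_eq_one_of_sq_zero (p : ℕ) (hp : (p : R) = 0) (J : Ideal R) (hJ : J ^ 2 = ⊥)
    (x : specOver k R ⟶ G) (hx : specMap (Ideal.Quotient.mkₐ k J) ≫ x = 1) : x ^ p = 1 := by
  obtain ⟨φ, rfl, hφ⟩ := exists_openPt_of_sq_zero hε J hJ x hx
  obtain ⟨ψ, hψ, hψa⟩ := openPt_pow_of_sq_zero hε J hJ φ hφ p
  rw [← hψ, one_eq_openPt hε]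
  congr 2
  exact AlgHom.ext fun a => by rw [hψa, nsmul_eq_mul, hp, zero_mul, add_zero]; rfl

/-- A point congruent to the unit modulo a nilpotent ideal is killed by a power of `p`. -/
theorem pow_eq_one_of_nilpotent (p : ℕ) (hp : (p : R) = 0) (I : Ideal R) (N : ℕ) (hN : I ^ N = ⊥)
    (x : specOver k R ⟶ G) (hx : specMap (Ideal.Quotient.mkₐ k I) ≫ x = 1) : x ^ p ^ N = 1 := by
  have key : ∀ m, specMap (Ideal.Quotient.mkₐ k (I ^ (m + 1))) ≫ x ^ p ^ m = 1 := by
    intro m
    induction m with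
    | zero =>
      rw [Nat.zero_add, pow_one, pow_zero, pow_one]
      exact hx
    | succ m ih =>
      let q : R →ₐ[k] R ⧸ I ^ (m + 2) := Ideal.Quotient.mkₐ k _
      let J : Ideal (R ⧸ I ^ (m + 2)) := (I ^ (m + 1)).map (Ideal.Quotient.mk (I ^ (m + 2)))
      have hJ : J ^ 2 = ⊥ := by
        rw [← Ideal.map_pow, Ideal.map_eq_bot_iff_le_ker, Ideal.mk_ker, ← pow_mul]
        exact Ideal.pow_le_pow_right (by omega)
      let h : R ⧸ I ^ (m + 1) →ₐ[k] (R ⧸ I ^ (m + 2)) ⧸ J :=
        Ideal.Quotient.liftₐ _ ((Ideal.Quotient.mkₐ k J).comp q) fun r hr =>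
          Ideal.Quotient.eq_zero_iff_mem.mpr (Ideal.mem_map_of_mem _ hr)
      have e : h.comp (Ideal.Quotient.mkₐ k _) = (Ideal.Quotient.mkₐ k J).comp q := AlgHom.ext fun _ => rfl
      have hq : specMap (Ideal.Quotient.mkₐ k J) ≫ (specMap q ≫ x ^ p ^ m) = 1 := by
        rw [← Category.assoc, specMap_comp, ← e, ← specMap_comp, Category.assoc, ih, MonObj.comp_one]
      have := pow_eq_one_of_sq_zero hε p (by rw [← map_natCast (Ideal.Quotient.mk (I ^ (m + 2))), hp, map_zero])
        J hJ _ hq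
      rwa [← MonObj.comp_pow, ← pow_mul, ← pow_succ] at this
  let h : R ⧸ I ^ (N + 1) →ₐ[k] R := Ideal.Quotient.liftₐ _ (AlgHom.id k R) fun r hr => by
    rw [pow_succ, hN, Ideal.bot_mul, Ideal.mem_bot] at hr
    exact hr
  have e : h.comp (Ideal.Quotient.mkₐ k _) = AlgHom.id k R := AlgHom.ext fun _ => rfl
  rw [← Category.id_comp (x ^ p ^ N), ← specMap_id, ← e, ← specMap_comp, Category.assoc, key, MonObj.comp_one]

end Groth.Agent.WeilRes21

end
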