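import Groth.Agent.Lib.WeilRes21.Kernel
import Groth.Agent.Lib.WeilRes21.OpenPt
import Groth.Prelude.Def_WeilRes
import Groth.Prelude.Def_AlgGrp

/-!
The kernel of the counit of a purely inseparable Weil restriction of an arbitrary group scheme is the
affine scheme cut out by an affine open neighbourhood of the unit.
-/

universe u

open CategoryTheory CategoryTheory.Limits MonoidalCategory CartesianMonoidalCategory MonObj AlgebraicGeometry
  TensorProduct

set_option backward.isDefEq.respectTransparency false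

noncomputable section

namespace Groth.Agent.WeilRes21

/-- the ring of the base-changed Weil restriction, with its ring structures preferred as such -/
local instance (priority := 10000) instS' {k k' A : Type u} [Field k] [Field k'] [Algebra k k'] [Module.Finite k k']
    [CommRing A] [Algebra k' A] : CommRing (k' ⊗[k] Ring k k' A) := Algebra.TensorProduct.instCommRing

section pt

variable {B B' : Type u} [CommRing B] [CommRing B'] [Algebra B B'] {R : Over (Spec (CommRingCat.of B))}

theorem diag_one_tmul {C : Type u} [CommRing C] [Algebra B C] [Algebra B' C] [IsScalarTower B B' C] (c : C) :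
    diag (B := B) ((1 : B') ⊗ₜ c) = c := by
  simp [diag]

/-- the `B'`-point of the base change defined by a point over `B` -/
def bcPoint {C : Type u} [CommRing C] [Algebra B C] [Algebra B' C] [IsScalarTower B B' C]
    (g : specOver B C ⟶ R) : specOver B' C ⟶ Red.bc (Spec.map (CommRingCat.ofHom (algebraMap B B'))) R :=
  specMap (diag (B := B) : B' ⊗[B] C →ₐ[B'] C) ≫ (bcPt B B' C).inv ≫ (bcF B B').map g

variable {C : Type u} [CommRing C] [Algebra B C] [Algebra B' C] [IsScalarTower B B' C]

theorem bcPoint_fst (g : specOver B C ⟶ R) : (bcPoint (B' := B') g).left ≫ pullback.fst _ _ = g.left := by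
  simp only [bcPoint, bcPt, Over.comp_left, specMap_left, Category.assoc]
  simp
  rw [← Spec.map_comp_assoc]
  have : CommRingCat.ofHom (Algebra.TensorProduct.includeRight (R := B) (A := B') (B := C)).toRingHom ≫
      CommRingCat.ofHom (diag (B := B) : B' ⊗[B] C →ₐ[B'] C).toRingHom = 𝟙 (CommRingCat.of C) := by
    ext c
    exact diag_one_tmul (c : C)
  erw [this]
  simp

theorem bcPoint_injective : Function.Injective (bcPoint (B' := B') (R := R) (C := C)) := fun g g' h => by
  ext : 1
  rw [← bcPoint_fst (B' := B') g, ← bcPoint_fst (B' := B') g', h]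

theorem bcPoint_surjective : Function.Surjective (bcPoint (B' := B') (R := R) (C := C)) := fun y => by
  let f := Spec.map (CommRingCat.ofHom (algebraMap B B'))
  let g : specOver B C ⟶ R := Over.homMk (y.left ≫ pullback.fst R.hom f) (by
    have h := Over.w y
    change y.left ≫ pullback.snd R.hom f = Spec.map _ at h
    rw [Category.assoc, pullback.condition, reassoc_of% h]
    change Spec.map _ ≫ Spec.map _ = Spec.map _
    rw [← Spec.map_comp]
    congr 1
    ext b
    exact (IsScalarTower.algebraMap_apply B B' C b).symm)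
  refine ⟨g, Over.OverMorphism.ext (pullback.hom_ext ?_ ?_)⟩
  · exact bcPoint_fst g
  · exact (Over.w (bcPoint (B' := B') g)).trans (Over.w y).symm

theorem bcPoint_comp_counit {G' : Over (Spec (CommRingCat.of B'))}
    (q : Red.bc (Spec.map (CommRingCat.ofHom (algebraMap B B'))) R ⟶ G') (g : specOver B C ⟶ R) :
    bcPoint (B' := B') g ≫ q =
      specMap (diag (B := B) : B' ⊗[B] C →ₐ[B'] C) ≫ (bcPt B B' C).inv ≫ WeilRes.restr _ q _ g := by
  simp [bcPoint, WeilRes.restr]

end pt

theorem ker_diag_le_nilradical {k k' : Type u} [Field k] [Field k'] [Algebra k k'] [Module.Finite k k']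
    [IsPurelyInseparable k k'] (C : Type u) [CommRing C] [Algebra k C] [Algebra k' C] [IsScalarTower k k' C] :
    RingHom.ker (diag (B := k) : k' ⊗[k] C →ₐ[k'] C).toRingHom ≤ nilradical (k' ⊗[k] C) := fun z hz => by
  obtain ⟨n, hn⟩ := isNilpotent_ker_diag (k := k) (k' := k') C
  refine mem_nilradical.mpr ⟨n, ?_⟩
  have := Ideal.pow_mem_pow hz n
  rwa [hn, Ideal.zero_eq_bot, Ideal.mem_bot] at this

theorem exists_open_nhd_one {F : Type u} [Field F] (G : Over (Spec (CommRingCat.of F))) [GrpObj G] :
    ∃ (A : Type u) (_ : CommRing A) (_ : Algebra F A) (iU : specOver F A ⟶ G) (_ : IsOpenImmersion iU.left)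
      (ε : A →ₐ[F] F), specMap ε ≫ iU = 1 := by
  let o : specOver F F ⟶ G := 1
  let x := o.left (IsLocalRing.closedPoint F)
  obtain ⟨U, hU, hxU, -⟩ :=
    exists_isAffineOpen_mem_and_subset (X := G.left) (x := x) (U := ⊤) (by simp)
  let W : Over (Spec (CommRingCat.of F)) := Over.mk (U.ι ≫ G.hom)
  have : IsAffine W.left := hU
  obtain ⟨A, _, _, ⟨j⟩⟩ := exists_iso_specOver W
  let iU : specOver F A ⟶ G := j.inv ≫ Over.homMk U.ι rfl
  have : IsIso j.inv.left := inferInstanceAs (IsIso ((Over.forget _).map j.inv))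
  have : IsOpenImmersion iU.left := inferInstanceAs (IsOpenImmersion (j.inv.left ≫ U.ι))
  have hr : Set.range o.left ⊆ Set.range iU.left := by
    rintro _ ⟨P, rfl⟩
    have : Subsingleton (specOver F F).left := inferInstanceAs (Subsingleton (PrimeSpectrum F))
    obtain ⟨v, hv⟩ : o.left P ∈ Set.range U.ι := by
      rw [Scheme.Opens.range_ι, Subsingleton.elim P (IsLocalRing.closedPoint F)]
      exact hxU
    refine ⟨j.hom.left v, ?_⟩
    have h := congrArg (fun m : W ⟶ G => m.left v) (j.hom_inv_id_assoc (Over.homMk U.ι rfl))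
    exact h.trans hv
  let g : specOver F F ⟶ specOver F A := Over.homMk (IsOpenImmersion.lift iU.left o.left hr) (by
    rw [← Over.w iU, IsOpenImmersion.lift_fac_assoc]
    exact Over.w o)
  refine ⟨A, _, _, iU, inferInstance, algHomEquiv g, ?_⟩
  rw [← algHomEquiv_symm_apply, Equiv.symm_apply_apply]
  ext : 1
  exact IsOpenImmersion.lift_fac _ _ hr

variable {k k' : Type u} [Field k] [Field k'] [Algebra k k'] [Module.Finite k k'] [IsPurelyInseparable k k']
  {G' : Over (Spec (CommRingCat.of k'))} [GrpObj G']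
  {R : Over (Spec (CommRingCat.of k))}
  {q : Red.bc (Spec.map (CommRingCat.ofHom (algebraMap k k'))) R ⟶ G'}

omit [GrpObj G'] in
theorem finiteType_of_openImmersion [LocallyOfFiniteType G'.hom] {A : Type u} [CommRing A] [Algebra k' A]
    (iU : specOver k' A ⟶ G') [IsOpenImmersion iU.left] : Algebra.FiniteType k' A := by
  have : LocallyOfFiniteType (specOver k' A).hom := by rw [← Over.w iU]; infer_instance
  exact finiteType_of_locallyOfFiniteType (Iso.refl (specOver k' A))

omit [GrpObj G'] in
theorem smooth_of_openImmersion [Smooth G'.hom] {A : Type u} [CommRing A] [Algebra k' A]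
    (iU : specOver k' A ⟶ G') [IsOpenImmersion iU.left] : Algebra.Smooth k' A := by
  have : Smooth (specOver k' A).hom := by rw [← Over.w iU]; infer_instance
  exact smooth_of_smooth (Iso.refl (specOver k' A))

/-- The kernel of the counit is the affine scheme cut out by `kerIdeal`. -/
theorem nonempty_kernel_iso (hR : WeilRes.IsWeilRes (Spec.map (CommRingCat.ofHom (algebraMap k k'))) G' R q)
    {A : Type u} [CommRing A] [Algebra k' A] (iU : specOver k' A ⟶ G') [IsOpenImmersion iU.left]
    (ε : A →ₐ[k'] k') (hε : specMap ε ≫ iU = 1)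
    {K : Over (Spec (CommRingCat.of k'))} {iK : K ⟶ Red.bc (Spec.map (CommRingCat.ofHom (algebraMap k k'))) R}
    (hK : AlgGrp.IsKernel iK q) :
    Nonempty (K ≅ specOver k' ((k' ⊗[k] Ring k k' A) ⧸ kerIdeal k ε)) := by
  let f := Spec.map (CommRingCat.ofHom (algebraMap k k'))
  let u : specOver k (Ring k k' A) ⟶ R :=
    hR.lift _ ((bcPt k k' (Ring k k' A)).hom ≫ specMap (univ k k' A) ≫ iU)
  have hu : ∀ (C : Type u) [CommRing C] [Algebra k C] (ψ : Ring k k' A →ₐ[k] C),
      WeilRes.restr f q _ (specMap ψ ≫ u) = (bcPt k k' C).hom ≫ specMap (homEquiv k k' A ψ) ≫ iU := by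
    intro C _ _ ψ
    rw [WeilRes.restr_comp, WeilRes.IsWeilRes.restr_lift, ← Category.assoc]
    change ((bcF k k').map _ ≫ _) ≫ _ = _
    rw [bcPt_natural, homEquiv_apply, ← specMap_comp]
    simp only [Category.assoc]
  let I := kerIdeal k ε
  let z₀ : specOver k' ((k' ⊗[k] Ring k k' A) ⧸ I) ⟶ Red.bc f R :=
    specMap (Ideal.Quotient.mkₐ k' I) ≫ (bcPt k k' (Ring k k' A)).inv ≫ (bcF k k').map u
  have hz₀ : z₀ ≫ q = 1 := by
    have e : (bcF k k').map u ≫ q = (bcPt k k' (Ring k k' A)).hom ≫ specMap (univ k k' A) ≫ iU :=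
      WeilRes.IsWeilRes.restr_lift hR _ _
    simp only [z₀, Category.assoc]
    rw [e, Iso.inv_hom_id_assoc, ← Category.assoc, specMap_comp, one_eq_openPt hε]
    congr 2
    exact AlgHom.ext fun a => Ideal.Quotient.eq.mpr (Ideal.subset_span ⟨a, rfl⟩)
  let z : specOver k' ((k' ⊗[k] Ring k k' A) ⧸ I) ⟶ K := hK.lift z₀ (toUnit _) (by rw [hz₀, Hom.one_def])
  have hKq : iK ≫ q = 1 := by rw [Hom.one_def]; exact hK.w
  -- description of points
  have key : ∀ (C : Type u) [CommRing C] [Algebra k C] [Algebra k' C] [IsScalarTower k k' C]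
      (g : (k' ⊗[k] Ring k k' A) ⧸ I →ₐ[k'] C) (ψ : Ring k k' A →ₐ[k] C),
      (∀ s, g (Ideal.Quotient.mk I s) = diag (B := k) (bcMap k k' ψ s)) →
      specMap g ≫ z₀ = bcPoint (B' := k') (specMap ψ ≫ u) := by
    intro C _ _ _ _ g ψ hg
    have e : g.comp (Ideal.Quotient.mkₐ k' I) = (diag (B := k)).comp (bcMap k k' ψ) := AlgHom.ext hg
    simp only [z₀, bcPoint]
    rw [← Category.assoc, specMap_comp, e, ← specMap_comp, Functor.map_comp, Category.assoc]
    congr 1
    rw [← Category.assoc (bcPt k k' C).inv, ← Category.assoc]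
    congr 1
    rw [Iso.eq_inv_comp, ← Category.assoc, Iso.comp_inv_eq]
    exact (bcPt_natural ψ).symm
  have haff : ∀ (C : Type u) [CommRing C] [Algebra k' C],
      Function.Bijective fun g : specOver k' C ⟶ specOver k' ((k' ⊗[k] Ring k k' A) ⧸ I) => g ≫ z := by
    intro C _ _
    let : Algebra k C := ((algebraMap k' C).comp (algebraMap k k')).toAlgebra
    have : IsScalarTower k k' C := IsScalarTower.of_algebraMap_eq' rfl
    have hψ : ∀ g : (k' ⊗[k] Ring k k' A) ⧸ I →ₐ[k'] C, ∃ ψ : Ring k k' A →ₐ[k] C,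
        ∀ s, g (Ideal.Quotient.mk I s) = diag (B := k) (bcMap k k' ψ s) := by
      intro g
      refine ⟨{ g.toRingHom.comp ((Ideal.Quotient.mk I).comp
          (Algebra.TensorProduct.includeRight (R := k) (A := k') (B := Ring k k' A)).toRingHom) with
        commutes' := fun x => by
          change g (Ideal.Quotient.mk I ((1 : k') ⊗ₜ algebraMap k (Ring k k' A) x)) = algebraMap k C x
          rw [IsScalarTower.algebraMap_apply k k' C, ← g.commutes]
          congr 1
          change Ideal.Quotient.mk I _ = Ideal.Quotient.mk I (algebraMap k k' x ⊗ₜ 1)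
          rw [Algebra.algebraMap_eq_smul_one, Algebra.algebraMap_eq_smul_one, smul_tmul] }, fun s => ?_⟩
      induction s using TensorProduct.induction_on with
      | zero => simp
      | tmul β w =>
        rw [bcMap_tmul, diag_tmul, show (β ⊗ₜ w : k' ⊗[k] Ring k k' A) = (β ⊗ₜ 1) * ((1 : k') ⊗ₜ w) by simp,
          map_mul, map_mul, show g (Ideal.Quotient.mk I (β ⊗ₜ 1)) = algebraMap k' C β from g.commutes β]
        rfl
      | add x y hx hy => simp only [map_add, hx, hy]
    constructor
    · intro g₁ g₂ h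
      obtain ⟨g₁, rfl⟩ := algHomEquiv.symm.surjective g₁
      obtain ⟨g₂, rfl⟩ := algHomEquiv.symm.surjective g₂
      have h' : specMap g₁ ≫ z₀ = specMap g₂ ≫ z₀ := by
        have := congrArg (· ≫ iK) h
        simpa only [Category.assoc, z, hK.lift_fst, algHomEquiv_symm_apply] using this
      obtain ⟨ψ₁, h₁⟩ := hψ g₁
      obtain ⟨ψ₂, h₂⟩ := hψ g₂
      rw [key C g₁ ψ₁ h₁, key C g₂ ψ₂ h₂] at h'
      have h'' := congrArg (WeilRes.restr f q _) (bcPoint_injective h')
      rw [hu, hu, cancel_epi] at h''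
      obtain rfl := (homEquiv k k' A).injective (openPt_injective h'')
      congr 1
      exact Ideal.Quotient.algHom_ext _ (AlgHom.ext fun s => (h₁ s).trans (h₂ s).symm)
    · intro y
      obtain ⟨yt, hyt⟩ := bcPoint_surjective (B' := k') (R := R) (y ≫ iK)
      let x := (bcPt k k' C).inv ≫ WeilRes.restr f q _ yt
      have hx : specMap (diag (B := k) : k' ⊗[k] C →ₐ[k'] C) ≫ x = 1 := by
        rw [← bcPoint_comp_counit, hyt, Category.assoc, hKq, MonObj.comp_one]
      obtain ⟨φ, hφ⟩ := exists_openPt hε _ (fun c => ⟨1 ⊗ₜ c, by simp⟩) (ker_diag_le_nilradical C) x hx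
      let ψ := (homEquiv k k' A).symm φ
      have hψu : specMap ψ ≫ u = yt := (hR _).1 (by
        rw [hu, Equiv.apply_symm_apply, hφ, Iso.hom_inv_id_assoc])
      have hd : (diag (B := k)).comp φ = (Algebra.ofId k' C).comp ε := openPt_injective (iU := iU) (by
        rw [← specMap_comp, Category.assoc, hφ, hx, one_eq_openPt hε])
      let g₁ := ((diag (B := k) : k' ⊗[k] C →ₐ[k'] C)).comp (bcMap k k' ψ)
      have hI : I ≤ RingHom.ker g₁.toRingHom := Ideal.span_le.mpr (Set.range_subset_iff.mpr fun a => by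
        change g₁ _ = 0
        rw [map_sub, sub_eq_zero, AlgHom.commutes]
        change diag (B := k) (homEquiv k k' A ψ a) = _
        rw [Equiv.apply_symm_apply]
        exact congr($hd a))
      let g : (k' ⊗[k] Ring k k' A) ⧸ I →ₐ[k'] C := Ideal.Quotient.liftₐ I g₁ fun s hs => hI hs
      refine ⟨specMap g, hK.hom_ext ?_ (toUnit_unique _ _)⟩
      simp only [z, Category.assoc, hK.lift_fst]
      rw [key C g ψ fun s => rfl, hψu, hyt]
  have : IsIso z := by
    refine isIso_of_bijective_affine _ fun Y hY => ?_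
    obtain ⟨C, _, _, ⟨j⟩⟩ := exists_iso_specOver Y
    have e : (fun g : Y ⟶ specOver k' ((k' ⊗[k] Ring k k' A) ⧸ I) => g ≫ z) =
        (fun g => j.hom ≫ g) ∘ (fun g => g ≫ z) ∘ fun g => j.inv ≫ g :=
      funext fun g => by simp
    rw [e]
    exact ((Iso.homFromEquiv j).symm.bijective.comp (haff C)).comp (Iso.homFromEquiv j).bijective
  exact ⟨(asIso z).symm⟩

omit [IsPurelyInseparable k k'] in
/-- smoothness of the kernel -/
theorem smooth_quot {A : Type u} [CommRing A] [Algebra k' A] [Algebra.Smooth k' A] (ε : A →ₐ[k'] k') :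
    Algebra.Smooth k' ((k' ⊗[k] Ring k k' A) ⧸ kerIdeal k ε) := by
  have := finiteType k k' A
  have : Algebra.FiniteType k' ((k' ⊗[k] Ring k k' A) ⧸ kerIdeal k ε) :=
    Algebra.FiniteType.of_surjective (Ideal.Quotient.mkₐ k' (kerIdeal k ε)) Ideal.Quotient.mk_surjective
  refine ⟨?_, Algebra.FinitePresentation.of_finiteType.mp inferInstance⟩
  refine Algebra.FormallySmooth.of_comp_surjective fun C _ _ J hJ f => ?_
  let : Algebra A C := ((algebraMap k' C).comp ε.toRingHom).toAlgebra
  let : Algebra A (k' ⊗[k] Ring k k' A) := RingHom.toAlgebra (R := A) (S := k' ⊗[k] Ring k k' A) (univ k k' A).toRingHom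
  have : Algebra.FormallySmooth A (k' ⊗[k] Ring k k' A) := formallySmooth_univ
  have hmk : ∀ a, Ideal.Quotient.mk (kerIdeal k ε) (univ k k' A a) =
      algebraMap k' ((k' ⊗[k] Ring k k' A) ⧸ kerIdeal k ε) (ε a) :=
    fun a => Ideal.Quotient.eq.mpr (Ideal.subset_span ⟨a, rfl⟩)
  let f₁ : (k' ⊗[k] Ring k k' A) →ₐ[A] C ⧸ J :=
    { f.toRingHom.comp (Ideal.Quotient.mk (kerIdeal k ε)) with
      commutes' := fun a => by
        change f (Ideal.Quotient.mk _ (univ k k' A a)) = Ideal.Quotient.mk J (algebraMap k' C (ε a))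
        rw [hmk, f.commutes]
        rfl }
  obtain ⟨g₁, hg₁⟩ := Algebra.FormallySmooth.exists_lift J ⟨2, hJ⟩ f₁
  have hg : ∀ β : k', g₁ (algebraMap k' (k' ⊗[k] Ring k k' A) β) = algebraMap k' C β := fun β => by
    rw [← (univ k k' A).commutes β]
    refine (g₁.commutes (algebraMap k' A β)).trans ?_
    change algebraMap k' C (ε (algebraMap k' A β)) = _
    rw [AlgHom.commutes]
    rfl
  let g₂ : (k' ⊗[k] Ring k k' A) →ₐ[k'] C := { g₁.toRingHom with commutes' := hg }
  have hI : kerIdeal k ε ≤ RingHom.ker g₂.toRingHom := Ideal.span_le.mpr (Set.range_subset_iff.mpr fun a => by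
    change g₂ _ = 0
    rw [map_sub, sub_eq_zero, AlgHom.commutes]
    exact g₁.commutes a)
  refine ⟨Ideal.Quotient.liftₐ _ g₂ fun s hs => hI hs, Ideal.Quotient.algHom_ext _ (AlgHom.ext fun s => ?_)⟩
  exact congr($hg₁ s)

variable [GrpObj R] [IsMonHom q]

theorem exists_pow_kernel (hR : WeilRes.IsWeilRes (Spec.map (CommRingCat.ofHom (algebraMap k k'))) G' R q) :
    ∃ M : ℕ, 0 < M ∧ ∀ (T : Over (Spec (CommRingCat.of k')))
      (y : T ⟶ Red.bc (Spec.map (CommRingCat.ofHom (algebraMap k k'))) R), y ≫ q = 1 → y ^ M = 1 := by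
  obtain ⟨A, _, _, iU, _, ε, hε⟩ := exists_open_nhd_one G'
  let f := Spec.map (CommRingCat.ofHom (algebraMap k k'))
  obtain ⟨M, hM0, hM⟩ : ∃ M : ℕ, 0 < M ∧ ∀ (C : Type u) [CommRing C] [Algebra k C] [Algebra k' C]
      [IsScalarTower k k' C] (x : specOver k' (k' ⊗[k] C) ⟶ G'),
      specMap (diag (B := k) : k' ⊗[k] C →ₐ[k'] C) ≫ x = 1 → x ^ M = 1 := by
    obtain ⟨p, hp⟩ := CharP.exists k
    rcases eq_or_ne p 0 with rfl | hp0
    · have := CharP.charP_to_charZero k
      have hs : Function.Surjective (algebraMap k k') := IsPurelyInseparable.surjective_algebraMap_of_isSeparable k k'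
      refine ⟨1, one_pos, fun C _ _ _ _ x hx => ?_⟩
      have hd : ∀ z : k' ⊗[k] C, z = 1 ⊗ₜ diag (B := k) z := fun z => by
        induction z using TensorProduct.induction_on with
        | zero => simp
        | tmul β c =>
          obtain ⟨r, rfl⟩ := hs β
          rw [diag_tmul, ← IsScalarTower.algebraMap_apply, Algebra.algebraMap_eq_smul_one (A := k'),
            smul_tmul, ← Algebra.smul_def]
        | add a b ha hb => rw [map_add, tmul_add, ← ha, ← hb]
      obtain ⟨φ, rfl⟩ := exists_openPt hε _ (fun c => ⟨1 ⊗ₜ c, by simp⟩) (ker_diag_le_nilradical C) x hx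
      rw [← Category.assoc, specMap_comp, one_eq_openPt hε] at hx
      have e := openPt_injective hx
      rw [pow_one, one_eq_openPt hε]
      congr 2
      refine AlgHom.ext fun a => ?_
      rw [hd (φ a), ← AlgHom.comp_apply, e]
      change (1 : k') ⊗ₜ algebraMap k' C (ε a) = algebraMap k' (k' ⊗[k] C) (ε a)
      rw [hd (algebraMap k' (k' ⊗[k] C) (ε a)), AlgHom.commutes]
    · obtain ⟨N, hN⟩ := exists_uniform (k := k) (k' := k')
      refine ⟨p ^ N, pow_pos (Nat.pos_of_ne_zero hp0) N, fun C _ _ _ _ x hx => ?_⟩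
      let D : k' ⊗[k] C →ₐ[k'] C := diag (B := k)
      refine pow_eq_one_of_nilpotent hε p ?_ _ N (hN C) x ?_
      · rw [← map_natCast (algebraMap k (k' ⊗[k] C)), CharP.cast_eq_zero, map_zero]
      · have hDs : Function.Surjective D := fun c => ⟨1 ⊗ₜ c, by simp [D]⟩
        let E := Ideal.quotientKerAlgEquivOfSurjective (f := D) hDs
        let h : C →ₐ[k'] (k' ⊗[k] C) ⧸ RingHom.ker D := E.symm.toAlgHom
        have e : h.comp D = Ideal.Quotient.mkₐ k' (RingHom.ker D) := AlgHom.ext fun z =>
          E.symm_apply_eq.mpr rfl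
        change specMap (Ideal.Quotient.mkₐ k' (RingHom.ker D)) ≫ x = 1
        rw [← e, ← specMap_comp, Category.assoc, hx, MonObj.comp_one]
  refine ⟨M, hM0, ?_⟩
  have haff : ∀ (C : Type u) [CommRing C] [Algebra k' C] (y : specOver k' C ⟶ Red.bc f R),
      y ≫ q = 1 → y ^ M = 1 := by
    intro C _ _ y hy
    let : Algebra k C := ((algebraMap k' C).comp (algebraMap k k')).toAlgebra
    have : IsScalarTower k k' C := IsScalarTower.of_algebraMap_eq' rfl
    obtain ⟨g, rfl⟩ := bcPoint_surjective (B' := k') (R := R) y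
    rw [bcPoint_comp_counit] at hy
    have h := hM C _ hy
    have hg : g ^ M = 1 := (hR _).1 (by
      have hpow : WeilRes.restr f q _ (g ^ M) = WeilRes.restr f q _ g ^ M :=
        map_pow (WeilRes.restrMonoidHom f q _) g M
      rw [hpow, WeilRes.restr_one, ← cancel_epi (bcPt k k' C).inv, MonObj.comp_pow, h, MonObj.comp_one])
    simp only [bcPoint]
    rw [← MonObj.comp_pow, ← MonObj.comp_pow,
      ← show (bcF k k').map (g ^ M) = (bcF k k').map g ^ M from map_pow (Functor.homMonoidHom (bcF k k')) g M, hg,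
      show (bcF k k').map (1 : specOver k C ⟶ R) = 1 from Functor.map_one _, MonObj.comp_one, MonObj.comp_one]
  intro T y hy
  ext : 1
  refine Scheme.Cover.hom_ext T.left.affineCover _ _ fun l => ?_
  let Z : Over (Spec (CommRingCat.of k')) := Over.mk (T.left.affineCover.f l ≫ T.hom)
  have : IsAffine Z.left := inferInstanceAs (IsAffine (T.left.affineCover.X l))
  let c : Z ⟶ T := Over.homMk (T.left.affineCover.f l) rfl
  obtain ⟨C, _, _, ⟨jz⟩⟩ := exists_iso_specOver Z
  have h3 := haff C (jz.inv ≫ c ≫ y) (by simp only [Category.assoc, hy, MonObj.comp_one])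
  rw [← MonObj.comp_pow, ← MonObj.comp_pow, ← MonObj.comp_one jz.inv, cancel_epi, ← MonObj.comp_one c] at h3
  exact congrArg CommaMorphism.left h3

end Groth.Agent.WeilRes21

end
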